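import Mathlib
import Groth.Agent.ZC.RedFib
import Groth.Agent.GeomRedPtLib.Basic

/-!
# Products with geometrically reduced schemes over a field
-/

set_option autoImplicit false
set_option linter.style.haveILetI false

universe u

open CategoryTheory CategoryTheory.Limits AlgebraicGeometry TensorProduct

namespace Groth.Agent.FBaseLib

variable {k : Type u} [Field k]

theorem isReduced_tensor_of_geometricallyReduced {T : Type u} [CommRing T] [Algebra k T]
    [GeometricallyReduced (Spec.map (CommRingCat.ofHom (algebraMap k T)))] (D : Type u) [CommRing D] [Algebra k D]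
    [_root_.IsReduced D] : _root_.IsReduced (D ⊗[k] T) := by
  refine ZC.isReduced_tensor_of_geom (A := k) (K := k) (hT := fun L _ _ => ?_)
  have h1 : AlgebraicGeometry.IsReduced (pullback (Spec.map (CommRingCat.ofHom (algebraMap k T)))
      (Spec.map (CommRingCat.ofHom (algebraMap k L)))) :=
    GeometricallyReduced.geometrically_isReduced _ _ _ (.of_hasPullback _ _)
  haveI := h1
  haveI : AlgebraicGeometry.IsReduced (Spec (CommRingCat.of (T ⊗[k] L))) :=
    isReduced_of_isOpenImmersion (pullbackSpecIso k T L).inv
  haveI : _root_.IsReduced (T ⊗[k] L) := (affine_isReduced_iff (CommRingCat.of (T ⊗[k] L))).1 inferInstance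
  exact isReduced_of_injective (Algebra.TensorProduct.comm k L T) (AlgEquiv.injective _)

theorem geometricallyReduced_of_algebra (T : Type u) [CommRing T] [Algebra k T] [Algebra.IsGeometricallyReduced k T] :
    GeometricallyReduced (Spec.map (CommRingCat.ofHom (algebraMap k T))) := by
  refine ⟨geometrically_iff_of_commRing.2 fun K _ _ Z fst snd h => ?_⟩
  haveI := GeomRedPtLib.isReduced_tensor_field (k := k) T K
  haveI : AlgebraicGeometry.IsReduced (Spec (CommRingCat.of (T ⊗[k] K))) := inferInstance
  exact isReduced_of_isOpenImmersion (h.isoPullback ≪≫ pullbackSpecIso k T K).hom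

theorem isReduced_pullback_affine (R D : CommRingCat.{u}) (f : Spec R ⟶ Spec (CommRingCat.of k))
    (g : Spec D ⟶ Spec (CommRingCat.of k)) [GeometricallyReduced f] [AlgebraicGeometry.IsReduced (Spec D)] :
    AlgebraicGeometry.IsReduced (pullback f g) := by
  obtain ⟨φ, rfl⟩ := Spec.map_surjective f
  obtain ⟨ψ, rfl⟩ := Spec.map_surjective g
  letI : Algebra k R := φ.hom.toAlgebra
  letI : Algebra k D := ψ.hom.toAlgebra
  haveI : GeometricallyReduced (Spec.map (CommRingCat.ofHom (algebraMap k R))) := ‹GeometricallyReduced (Spec.map φ)›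
  haveI : _root_.IsReduced D := (affine_isReduced_iff D).1 inferInstance
  haveI := isReduced_tensor_of_geometricallyReduced (k := k) (T := R) D
  haveI : AlgebraicGeometry.IsReduced (Spec (CommRingCat.of (↑D ⊗[k] ↑R))) := inferInstance
  exact isReduced_of_isOpenImmersion (pullbackSymmetry _ _ ≪≫ pullbackSpecIso k D R).hom

theorem isReduced_pullback {X S : Scheme.{u}} (f : X ⟶ Spec (CommRingCat.of k)) (g : S ⟶ Spec (CommRingCat.of k))
    [GeometricallyReduced f] [AlgebraicGeometry.IsReduced S] : AlgebraicGeometry.IsReduced (pullback f g) := by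
  apply +allowSynthFailures @IsReduced.of_openCover (𝒰 := Scheme.Pullback.openCoverOfLeftRight X.affineCover S.affineCover f g)
  rintro ⟨i, j⟩
  show AlgebraicGeometry.IsReduced (pullback (X.affineCover.f i ≫ f) (S.affineCover.f j ≫ g))
  have hgeo : GeometricallyReduced (X.affineCover.f i ≫ f) := by
    refine ⟨fun K _ y Z fst snd h => ?_⟩
    haveI : AlgebraicGeometry.IsReduced (pullback f y) :=
      GeometricallyReduced.geometrically_isReduced _ _ _ (.of_hasPullback _ _)
    haveI : AlgebraicGeometry.IsReduced (pullback (X.affineCover.f i) (pullback.fst f y)) :=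
      isReduced_of_isOpenImmersion (pullback.snd (X.affineCover.f i) (pullback.fst f y))
    exact isReduced_of_isOpenImmersion
      (h.isoPullback ≪≫ (pullbackRightPullbackFstIso f y (X.affineCover.f i)).symm).hom
  have hred : AlgebraicGeometry.IsReduced (S.affineCover.X j) := isReduced_of_isOpenImmersion (S.affineCover.f j)
  exact @isReduced_pullback_affine k _ _ _ (X.affineCover.f i ≫ f) (S.affineCover.f j ≫ g) hgeo hred

end Groth.Agent.FBaseLib
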