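import Mathlib

/-! # Artin–Schreier generators of totally ramified extensions in normal form -/

set_option autoImplicit false

attribute [local instance] FractionRing.liftAlgebra

universe u

namespace Groth.Agent.FBaseLib.ASNormal

theorem eq_natCast_of_pow_eq {E : Type u} [Field E] (p : ℕ) [Fact p.Prime] [CharP E p] {z : E} (h : z ^ p = z) :
    ∃ n : ℕ, z = n := by
  let f : ZMod p →+* E := ZMod.castHom (dvd_refl p) E
  have h2 : z ∈ (⊥ : Subfield E) := (Subfield.mem_bot_iff_pow_eq_self (F := E) (p := p)).2 h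
  obtain ⟨a, rfl⟩ := (bot_le : (⊥ : Subfield E) ≤ f.fieldRange) h2
  exact ⟨a.val, by conv_lhs => rw [← ZMod.natCast_zmod_val a, map_natCast]⟩

/-- A generator of a Galois extension of prime degree `p` in characteristic `p`. -/
theorem exists_generator (F E : Type u) [Field F] [Field E] [Algebra F E] [IsGalois F E] (p : ℕ) [hp : Fact p.Prime]
    [CharP F p] (hdeg : Module.finrank F E = p) :
    ∃ (x : E) (c : F), x ^ p - x = algebraMap F E c ∧ x ∉ Set.range (algebraMap F E) := by
  haveI : FiniteDimensional F E := Module.finite_of_finrank_pos (hdeg ▸ hp.out.pos)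
  haveI : CharP E p := charP_of_injective_algebraMap (algebraMap F E).injective p
  have hcard : Nat.card (E ≃ₐ[F] E) = p := by rw [IsGalois.card_aut_eq_finrank, hdeg]
  haveI : Nontrivial (E ≃ₐ[F] E) := Finite.one_lt_card_iff_nontrivial.1 (hcard ▸ hp.out.one_lt)
  obtain ⟨σ, hσ⟩ := exists_ne (1 : E ≃ₐ[F] E)
  have hgen : Subgroup.zpowers σ = ⊤ := zpowers_eq_top_of_prime_card hcard hσ
  have hfix : ∀ y : E, σ y = y → y ∈ Set.range (algebraMap F E) := fun y hy => by
    refine (IsGalois.mem_range_algebraMap_iff_fixed y).2 fun τ => ?_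
    have hτ : τ ∈ Subgroup.zpowers σ := by rw [hgen]; trivial
    obtain ⟨n, rfl⟩ := hτ
    have hs : σ ∈ MulAction.stabilizer (E ≃ₐ[F] E) y := hy
    exact Subgroup.zpow_mem _ hs n
  let d : E →ₗ[F] E := σ.toLinearMap - LinearMap.id
  have hk : LinearMap.ker d ≤ Submodule.span F {(1 : E)} := fun y hy => by
    obtain ⟨a, ha⟩ := hfix y (sub_eq_zero.1 hy)
    exact Submodule.mem_span_singleton.2 ⟨a, by rw [← ha, Algebra.algebraMap_eq_smul_one]⟩
  have hr : LinearMap.range d ≤ LinearMap.ker (Algebra.trace F E) := by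
    rintro _ ⟨y, rfl⟩
    show Algebra.trace F E (σ y - y) = 0
    rw [map_sub, Algebra.trace_eq_of_algEquiv, sub_self]
  have hrange : LinearMap.range d = LinearMap.ker (Algebra.trace F E) := by
    refine Submodule.eq_of_le_of_finrank_le hr ?_
    have h1 := LinearMap.finrank_range_add_finrank_ker d
    have h2 := LinearMap.finrank_range_add_finrank_ker (Algebra.trace F E)
    have h3 : Module.finrank F (LinearMap.range (Algebra.trace F E)) = 1 := by
      rw [LinearMap.range_eq_top.2 (Algebra.trace_surjective F E), finrank_top, Module.finrank_self]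
    have h4 : Module.finrank F (LinearMap.ker d) ≤ 1 :=
      (Submodule.finrank_mono hk).trans (finrank_span_singleton (one_ne_zero (α := E))).le
    omega
  have h1 : (1 : E) ∈ LinearMap.ker (Algebra.trace F E) := by
    rw [LinearMap.mem_ker, ← map_one (algebraMap F E), Algebra.trace_algebraMap, hdeg, nsmul_one, CharP.cast_eq_zero]
  rw [← hrange] at h1
  obtain ⟨x, hx⟩ := h1
  have hx' : σ x = x + 1 := by rw [← hx]; show σ x = x + (σ x - x); ring
  obtain ⟨c, hc⟩ := hfix (x ^ p - x) (by rw [map_sub, map_pow, hx', add_pow_char, one_pow]; ring)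
  refine ⟨x, c, hc.symm, ?_⟩
  rintro ⟨a, rfl⟩
  rw [σ.commutes] at hx'
  exact one_ne_zero (show (1 : E) = 0 by linear_combination -hx')

variable {p : ℕ} [Fact p.Prime] {K : Type u} [Field K] [CharP K p]
variable {B : Type u} [CommRing B] [IsDedekindDomain B] [Algebra (PowerSeries K) B]
  [Module.Finite (PowerSeries K) B] [Module.IsTorsionFree (PowerSeries K) B]

local notation "F" => FractionRing (PowerSeries K)
local notation "E" => FractionRing B

/-- A totally ramified extension has no Artin–Schreier generator with integral invariant. -/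
theorem mem_range_of_integral (hdeg : Module.finrank F E = p) (M : Ideal B) [M.IsMaximal]
    (hram : M.ramificationIdx (PowerSeries K) = p) (x : E) (a : PowerSeries K)
    (hx : x ^ p - x = algebraMap F E (algebraMap (PowerSeries K) F a)) : x ∈ Set.range (algebraMap F E) := by
  classical
  rw [← IsScalarTower.algebraMap_apply (PowerSeries K) F E] at hx
  have hint : IsIntegral (PowerSeries K) x := by
    refine ⟨Polynomial.X ^ p - Polynomial.X - Polynomial.C a, ?_, ?_⟩
    · rw [sub_sub]
      refine Polynomial.monic_X_pow_sub ?_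
      rw [Polynomial.degree_X_add_C]
      exact_mod_cast (Fact.out : p.Prime).one_lt
    · rw [Polynomial.eval₂_sub, Polynomial.eval₂_sub, Polynomial.eval₂_X_pow, Polynomial.eval₂_X, Polynomial.eval₂_C, hx, sub_self]
  obtain ⟨y, rfl⟩ := IsIntegrallyClosed.isIntegral_iff.1 (hint.tower_top (A := B))
  let m := IsLocalRing.maximalIdeal (PowerSeries K)
  haveI : Algebra.IsIntegral (PowerSeries K) B := inferInstance
  haveI : (M.under (PowerSeries K)).IsMaximal := Ideal.IsMaximal.under (PowerSeries K) M
  haveI : M.LiesOver m := ⟨(IsLocalRing.eq_maximalIdeal inferInstance).symm⟩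
  haveI : m.IsPrime := (IsLocalRing.maximalIdeal.isMaximal _).isPrime
  haveI : Algebra.QuasiFinite (PowerSeries K) B := inferInstance
  haveI : Fintype (m.primesOver B) := Fintype.ofFinite _
  haveI : Module.Flat (PowerSeries K) B := inferInstance
  have hfr : Module.finrank (PowerSeries K) B = p := by
    rw [← hdeg, IsFractionRing.finrank_eq (PowerSeries K) F B E]
  have hf : M.inertiaDeg (PowerSeries K) = 1 := by
    have hs := Ideal.sum_ramification_inertia_eq_finrank m B
    have hle : M.ramificationIdx (PowerSeries K) * M.inertiaDeg (PowerSeries K) ≤ p := by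
      rw [← hfr, ← hs]
      exact Finset.single_le_sum (f := fun q : m.primesOver B => q.1.ramificationIdx (PowerSeries K) * q.1.inertiaDeg (PowerSeries K))
        (fun _ _ => Nat.zero_le _) (Finset.mem_univ (⟨M, inferInstance, inferInstance⟩ : m.primesOver B))
    rw [hram] at hle
    have h1 : M.inertiaDeg (PowerSeries K) ≤ 1 :=
      Nat.le_of_mul_le_mul_left (by rwa [mul_one]) (Fact.out : p.Prime).pos
    have h2 := Ideal.inertiaDeg_pos (R := PowerSeries K) (q := M)
    omega
  letI : Field (PowerSeries K ⧸ m) := Ideal.Quotient.field m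
  rw [Ideal.inertiaDeg_eq_of_isMaximal m M] at hf
  obtain ⟨r, hr⟩ := (finrank_eq_one_iff_of_nonzero' (1 : B ⧸ M) one_ne_zero).1 hf (Ideal.Quotient.mk M y)
  obtain ⟨a₀, rfl⟩ := Ideal.Quotient.mk_surjective r
  have hy : y - algebraMap (PowerSeries K) B a₀ ∈ M := by
    rw [← Ideal.Quotient.eq, ← hr, Algebra.smul_def, mul_one]
    rfl
  have hy' : y ^ p - y = algebraMap (PowerSeries K) B a := by
    apply IsFractionRing.injective B E
    rw [map_sub, map_pow, hx, ← IsScalarTower.algebraMap_apply]
  have ha₀ : a₀ ^ p - a₀ - a ∈ m := by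
    rw [Ideal.over_def M m, Ideal.under_def, Ideal.mem_comap, map_sub, map_sub, map_pow, ← hy']
    have e : algebraMap (PowerSeries K) B a₀ ^ p - algebraMap (PowerSeries K) B a₀ - (y ^ p - y) =
        (algebraMap (PowerSeries K) B a₀ ^ p - y ^ p) + (y - algebraMap (PowerSeries K) B a₀) := by ring
    rw [e]
    refine M.add_mem ?_ hy
    rw [← neg_sub, M.neg_mem_iff]
    exact M.mem_of_dvd (sub_dvd_pow_sub_pow y _ p) hy
  haveI : IsAdicComplete m (PowerSeries K) := by
    show IsAdicComplete (IsLocalRing.maximalIdeal (PowerSeries K)) (PowerSeries K)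
    rw [PowerSeries.maximalIdeal_eq_span_X]
    infer_instance
  haveI : CharP (PowerSeries K) p := charP_of_injective_ringHom (f := PowerSeries.C) PowerSeries.C_injective p
  obtain ⟨b, hb, -⟩ := HenselianRing.is_henselian (I := m) (Polynomial.X ^ p - Polynomial.X - Polynomial.C a)
    (by
      rw [sub_sub]
      refine Polynomial.monic_X_pow_sub ?_
      rw [Polynomial.degree_X_add_C]
      exact_mod_cast (Fact.out : p.Prime).one_lt) a₀ (by simpa using ha₀) (by
      simp [Polynomial.derivative_X_pow, CharP.cast_eq_zero (PowerSeries K) p])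
  have hb' : b ^ p - b = a := by simpa [sub_eq_zero] using hb
  haveI : CharP E p := charP_of_injective_algebraMap
    (show Function.Injective (algebraMap (PowerSeries K) E) by
      rw [IsScalarTower.algebraMap_eq (PowerSeries K) F E]
      exact (algebraMap F E).injective.comp (IsFractionRing.injective _ F)) p
  obtain ⟨n, hn⟩ := eq_natCast_of_pow_eq p (z := algebraMap B E y - algebraMap (PowerSeries K) E b) (by
    have h2 : algebraMap (PowerSeries K) E b ^ p - algebraMap (PowerSeries K) E b = algebraMap (PowerSeries K) E a := by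
      rw [← map_pow, ← map_sub, hb']
    rw [sub_pow_char, ← sub_eq_zero]
    linear_combination hx - h2)
  refine ⟨algebraMap (PowerSeries K) F b + n, ?_⟩
  rw [map_add, map_natCast, ← IsScalarTower.algebraMap_apply, ← hn]
  ring

variable [PerfectField K]

/-- Artin–Schreier normal form. -/
theorem exists_normal_form [IsGalois F E] (hdeg : Module.finrank F E = p) (M : Ideal B) [M.IsMaximal]
    (hram : M.ramificationIdx (PowerSeries K) = p) :
    ∃ x : E, ∃ m : ℕ, ∃ a : PowerSeries K,
      IntermediateField.adjoin F {x} = ⊤ ∧ 0 < m ∧ ¬ p ∣ m ∧ PowerSeries.constantCoeff a ≠ 0 ∧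
      x ^ p - x + algebraMap F E (algebraMap (PowerSeries K) F a / algebraMap (PowerSeries K) F (PowerSeries.X ^ m)) = 0 := by
  classical
  let φ := algebraMap (PowerSeries K) F
  have hXF : φ PowerSeries.X ≠ 0 := fun h =>
    PowerSeries.X_ne_zero (IsFractionRing.injective (PowerSeries K) F (h.trans (map_zero _).symm))
  haveI : CharP F p := charP_of_injective_ringHom (f := φ.comp PowerSeries.C) (RingHom.injective _) p
  haveI : CharP E p := charP_of_injective_algebraMap (algebraMap F E).injective p
  suffices key : ∀ (n : ℕ) (x : E) (a : PowerSeries K), x ∉ Set.range (algebraMap F E) →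
      x ^ p - x = algebraMap F E (φ a / φ PowerSeries.X ^ n) →
      ∃ (x' : E) (m : ℕ) (a' : PowerSeries K), x' ∉ Set.range (algebraMap F E) ∧ 0 < m ∧ ¬ p ∣ m ∧
        PowerSeries.constantCoeff a' ≠ 0 ∧ x' ^ p - x' = algebraMap F E (φ a' / φ PowerSeries.X ^ m) by
    obtain ⟨x, c, hc, hxn⟩ := exists_generator F E p hdeg
    obtain ⟨a, s, hs, rfl⟩ := IsFractionRing.div_surjective (PowerSeries K) c
    obtain ⟨n, u, hu⟩ := IsDiscreteValuationRing.eq_unit_mul_pow_irreducible (nonZeroDivisors.ne_zero hs)
      (PowerSeries.X_irreducible (R := K))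
    obtain ⟨x', m, a', h1, h2, h3, h4, h5⟩ := key n x (a * ↑u⁻¹) hxn (by
      rw [hc]
      congr 1
      show φ a / φ s = _
      rw [hu, map_mul, map_pow, map_mul, div_mul_eq_div_div]
      congr 1
      rw [div_eq_iff (fun h => u.ne_zero (IsFractionRing.injective (PowerSeries K) F (h.trans (map_zero _).symm))),
        mul_assoc, ← map_mul, Units.inv_mul, map_one, mul_one])
    refine ⟨x', m, -a', ?_, h2, h3, by rwa [map_neg, neg_ne_zero], ?_⟩
    · haveI : FiniteDimensional F E := Module.finite_of_finrank_pos (hdeg ▸ (Fact.out : p.Prime).pos)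
      refine IntermediateField.eq_of_le_of_finrank_eq le_top ?_
      rw [IntermediateField.finrank_top', hdeg]
      have hd : Module.finrank F (IntermediateField.adjoin F {x'}) ∣ p :=
        hdeg ▸ Dvd.intro _ (Module.finrank_mul_finrank _ _ E)
      rcases (Fact.out : p.Prime).eq_one_or_self_of_dvd _ hd with h | h
      · have hbot := IntermediateField.finrank_eq_one_iff.1 h
        have hmem := IntermediateField.mem_adjoin_simple_self F x'
        rw [hbot, IntermediateField.mem_bot] at hmem
        exact absurd hmem h1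
      · exact h
    · show x' ^ p - x' + algebraMap F E (φ (-a') / φ (PowerSeries.X ^ m)) = 0
      rw [h5, map_neg φ, map_pow φ, neg_div, map_neg, add_neg_cancel]
  intro n
  induction n using Nat.strong_induction_on with
  | _ n ih =>
  intro x a hxn hx
  rcases Nat.eq_zero_or_pos n with rfl | hn
  · rw [pow_zero, div_one] at hx
    exact absurd (mem_range_of_integral hdeg M hram x a hx) hxn
  have step : ∀ (y : E) (b : PowerSeries K), PowerSeries.constantCoeff b = 0 → y ∉ Set.range (algebraMap F E) →
      y ^ p - y = algebraMap F E (φ b / φ PowerSeries.X ^ n) →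
      ∃ (x' : E) (m : ℕ) (a' : PowerSeries K), x' ∉ Set.range (algebraMap F E) ∧ 0 < m ∧ ¬ p ∣ m ∧
        PowerSeries.constantCoeff a' ≠ 0 ∧ x' ^ p - x' = algebraMap F E (φ a' / φ PowerSeries.X ^ m) := by
    intro y b hb hyn hy
    obtain ⟨b', rfl⟩ := PowerSeries.X_dvd_iff.2 hb
    refine ih (n - 1) (by omega) y b' hyn (hy.trans ?_)
    rw [map_mul, show n = n - 1 + 1 by omega, pow_succ', mul_div_mul_left _ _ hXF, Nat.add_sub_cancel]
  by_cases ha : PowerSeries.constantCoeff a = 0
  · exact step x a ha hxn hx
  by_cases hpn : p ∣ n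
  swap
  · exact ⟨x, n, a, hxn, hn, hpn, ha, hx⟩
  obtain ⟨q, rfl⟩ := hpn
  haveI : ExpChar K p := ExpChar.prime Fact.out
  haveI : PerfectRing K p := PerfectField.toPerfectRing p
  obtain ⟨b, hb⟩ := (bijective_frobenius K p).2 (PowerSeries.constantCoeff a)
  rw [frobenius_def] at hb
  have hq : 0 < q := Nat.pos_of_mul_pos_left hn
  let r : F := φ (PowerSeries.C b) / φ PowerSeries.X ^ q
  refine step (x - algebraMap F E r)
    (a - PowerSeries.C b ^ p + PowerSeries.C b * PowerSeries.X ^ ((p - 1) * q)) ?_ ?_ ?_
  · rw [map_add, map_sub, map_pow, PowerSeries.constantCoeff_C, hb, sub_self, map_mul, map_pow,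
      PowerSeries.constantCoeff_X, zero_pow (Nat.mul_ne_zero (Nat.sub_ne_zero_of_lt (Fact.out : p.Prime).one_lt) hq.ne'),
      mul_zero, add_zero]
  · rintro ⟨z, hz⟩
    exact hxn ⟨z + r, by rw [map_add, hz, sub_add_cancel]⟩
  · have hpq : p * q = (p - 1) * q + q := by
      have := (Fact.out : p.Prime).pos
      nth_rewrite 1 [show p = p - 1 + 1 by omega]
      rw [add_mul, one_mul]
    rw [sub_pow_char, ← map_pow (algebraMap F E) r, show x ^ p - algebraMap F E (r ^ p) - (x - algebraMap F E r) =
      (x ^ p - x) - algebraMap F E (r ^ p) + algebraMap F E r by ring, hx, ← map_sub, ← map_add]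
    congr 1
    show φ a / φ PowerSeries.X ^ (p * q) - (φ (PowerSeries.C b) / φ PowerSeries.X ^ q) ^ p +
      φ (PowerSeries.C b) / φ PowerSeries.X ^ q = _
    rw [div_pow, ← pow_mul, mul_comm q p, map_add, map_sub, map_pow, map_mul, map_pow, add_div, sub_div]
    congr 1
    rw [hpq, pow_add, mul_div_assoc, div_mul_cancel_left₀ (pow_ne_zero _ hXF), ← div_eq_mul_inv]

end Groth.Agent.FBaseLib.ASNormal
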