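import Mathlib

/-! # Homomorphisms defined by symmetric forms and a vector -/

set_option autoImplicit false

open Module

namespace Groth.Agent.FBaseLib

/-- A vector is its content times the first vector of a basis. -/
theorem exists_basis_content {n : ℕ} (d : Fin (n + 1) → ℤ) :
    ∃ bb : Basis (Fin (n + 1)) ℤ (Fin (n + 1) → ℤ), d = Finset.univ.gcd d • bb 0 := by
  classical
  obtain ⟨d', hd, hg⟩ := Finset.extract_gcd (s := (Finset.univ : Finset (Fin (n + 1)))) d Finset.univ_nonempty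
  obtain ⟨a, ha⟩ := (IsPrincipalIdealRing.principal (Ideal.span (Set.range d'))).principal
  have hu : IsUnit a := isUnit_of_dvd_one (hg ▸ Finset.dvd_gcd fun i _ => by
    have h : d' i ∈ Ideal.span (Set.range d') := Ideal.subset_span ⟨i, rfl⟩
    rw [ha] at h
    exact Ideal.mem_span_singleton.1 h)
  have h1 : (1 : ℤ) ∈ Ideal.span (Set.range d') := by
    rw [ha]; exact Ideal.mem_span_singleton.2 hu.dvd
  obtain ⟨c, hc⟩ := Ideal.mem_span_range_iff_exists_fun.1 h1
  let ℓ : (Fin (n + 1) → ℤ) →ₗ[ℤ] ℤ := ∑ i, c i • LinearMap.proj i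
  have hℓ : ℓ d' = 1 := by simpa [ℓ] using hc
  obtain ⟨k, b⟩ := Submodule.basisOfPid (Pi.basisFun ℤ (Fin (n + 1))) (LinearMap.ker ℓ)
  let B := Basis.mkFinCons d' b
    (fun c x hx h => by
      have := congrArg ℓ h
      rw [map_add, map_smul, hℓ, LinearMap.mem_ker.1 hx, map_zero, smul_eq_mul, mul_one, add_zero] at this
      exact this)
    (fun z => ⟨-ℓ z, by rw [LinearMap.mem_ker, map_add, map_smul, hℓ, smul_eq_mul, mul_one, add_neg_cancel]⟩)
  obtain rfl : k = n := by
    have h := Module.finrank_eq_card_basis B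
    rw [Module.finrank_fintype_fun_eq_card, Fintype.card_fin, Fintype.card_fin] at h
    omega
  refine ⟨B, ?_⟩
  rw [show B 0 = d' by rw [Basis.coe_mkFinCons]; rfl]
  funext i
  exact hd i (Finset.mem_univ i)

/-- Multiples of an integer residue form the kernel of reduction. -/
theorem mem_zmultiples_intCast_iff (δ : ℕ) (a : ℤ) (x : ZMod δ) :
    x ∈ AddSubgroup.zmultiples (a : ZMod δ) ↔ ZMod.castHom (Int.gcd_dvd_natAbs_left δ a) (ZMod (Int.gcd δ a)) x = 0 := by
  obtain ⟨z, rfl⟩ := ZMod.intCast_surjective x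
  rw [map_intCast, ZMod.intCast_zmod_eq_zero_iff_dvd, AddSubgroup.mem_zmultiples_iff]
  constructor
  · rintro ⟨k, hk⟩
    have hk' : ((k * a : ℤ) : ZMod δ) = (z : ZMod δ) := by rw [← hk]; push_cast; rw [zsmul_eq_mul]
    rw [ZMod.intCast_eq_intCast_iff_dvd_sub] at hk'
    have h1 := (Int.gcd_dvd_left (δ : ℤ) a).trans hk'
    have := dvd_add h1 ((Int.gcd_dvd_right (δ : ℤ) a).mul_left k)
    rwa [sub_add_cancel] at this
  · rintro ⟨t, rfl⟩
    refine ⟨t * Int.gcdB δ a, ?_⟩
    rw [Int.gcd_eq_gcd_ab, zsmul_eq_mul]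
    push_cast
    simp
    ring

noncomputable def zmultEquiv (δ : ℕ) (hδ : 0 < δ) (a : ℤ) :
    AddSubgroup.zmultiples (a : ZMod δ) ≃+ ZMod (δ / Int.gcd δ a) :=
  haveI : IsAddCyclic (AddSubgroup.zmultiples (a : ZMod δ)) := inferInstance
  (zmodAddCyclicAddEquiv this).symm.trans (ZMod.ringEquivCongr (by
    rw [Nat.card_zmultiples]
    have h : addOrderOf ((a.natAbs : ℕ) : ZMod δ) = δ / Int.gcd δ a := by
      rw [ZMod.addOrderOf_coe _ hδ.ne']; rfl
    rcases Int.natAbs_eq a with ha | ha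
    · rw [← h]; conv_lhs => rw [ha]
      rw [Int.cast_natCast]
    · rw [← h]; conv_lhs => rw [ha]
      rw [Int.cast_neg, Int.cast_natCast, addOrderOf_neg])).toAddEquiv

section

variable (n δ : ℕ) (g : ℤ) (d : Fin (n + 1) → ℤ)

/-- The boundary homomorphisms. -/
abbrev boundarySet : Set ((Fin (n + 1) → ℤ) →+ ZMod δ) :=
  {φ | ∃ b : LinearMap.BilinForm ℤ (Fin (n + 1) → ℤ), b.IsSymm ∧
    ∀ x, φ x = ((b d x + (1 - g) * b x x : ℤ) : ZMod δ)}

/-- Evaluation at a basis. -/
noncomputable def evalEquiv (bb : Basis (Fin (n + 1)) ℤ (Fin (n + 1) → ℤ)) :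
    ((Fin (n + 1) → ℤ) →+ ZMod δ) ≃+ (ZMod δ × (Fin n → ZMod δ)) where
  toFun φ := (φ (bb 0), fun i => φ (bb i.succ))
  invFun v := (bb.constr ℤ (Fin.cons v.1 v.2)).toAddMonoidHom
  left_inv φ := by
    have h : bb.constr ℤ (Fin.cons (φ (bb 0)) fun i => φ (bb i.succ)) = φ.toIntLinearMap :=
      bb.ext fun i => by
        rw [Basis.constr_basis]
        refine Fin.cases ?_ (fun j => ?_) i <;> simp
    show (bb.constr ℤ _).toAddMonoidHom = φ
    rw [h]; rfl
  right_inv v := by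
    refine Prod.ext ?_ (funext fun i => ?_) <;>
      simp [Basis.constr_basis]
  map_add' φ ψ := rfl

theorem mem_closure_boundarySet_iff (hδ : (δ : ℤ) ∣ 2 * (g - 1)) (bb : Basis (Fin (n + 1)) ℤ (Fin (n + 1) → ℤ))
    (hd : d = Finset.univ.gcd d • bb 0) (φ : (Fin (n + 1) → ℤ) →+ ZMod δ) :
    φ ∈ AddSubgroup.closure (boundarySet n δ g d) ↔
      φ (bb 0) ∈ AddSubgroup.zmultiples ((Finset.univ.gcd d + 1 - g : ℤ) : ZMod δ) ∧
      ∀ i : Fin n, φ (bb i.succ) ∈ AddSubgroup.zmultiples (((Int.gcd (g - 1) (Finset.univ.gcd d) : ℕ) : ℤ) : ZMod δ) := by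
  classical
  set D := Finset.univ.gcd d with hD
  have h2 : (((2 : ℤ) * (g - 1) : ℤ) : ZMod δ) = 0 := (ZMod.intCast_zmod_eq_zero_iff_dvd _ _).2 hδ
  constructor
  · intro h
    induction h using AddSubgroup.closure_induction with
    | mem φ hφ =>
      obtain ⟨b, -, hb⟩ := hφ
      have e : ∀ x, b d x = D * b (bb 0) x := fun x => by rw [hd, map_smul, LinearMap.smul_apply, smul_eq_mul]
      refine ⟨AddSubgroup.mem_zmultiples_iff.2 ⟨b (bb 0) (bb 0), ?_⟩, fun i => ?_⟩
      · rw [hb, e, zsmul_eq_mul]; push_cast; ring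
      · rw [hb, e, mem_zmultiples_intCast_iff, map_intCast, ZMod.intCast_zmod_eq_zero_iff_dvd]
        refine (Int.gcd_dvd_right (δ : ℤ) _).trans (dvd_add (dvd_mul_of_dvd_left (Int.gcd_dvd_right (g - 1) D) _) ?_)
        rw [← neg_sub g 1, neg_mul]
        exact (dvd_mul_of_dvd_left (Int.gcd_dvd_left (g - 1) D) _).neg_right
    | zero => exact ⟨zero_mem _, fun i => zero_mem _⟩
    | add a b _ _ iha ihb => exact ⟨add_mem iha.1 ihb.1, fun i => add_mem (iha.2 i) (ihb.2 i)⟩
    | neg a _ iha => exact ⟨neg_mem iha.1, fun i => neg_mem (iha.2 i)⟩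
  · rintro ⟨h0, hs⟩
    obtain ⟨k, hk⟩ := AddSubgroup.mem_zmultiples_iff.1 h0
    choose t ht using fun i => AddSubgroup.mem_zmultiples_iff.1 (hs i)
    let Mb : Matrix (Fin (n + 1)) (Fin (n + 1)) ℤ := Matrix.of fun i j =>
      Fin.cases (Fin.cases k (fun j' => t j' * Int.gcdB (g - 1) D) j)
        (fun i' => Fin.cases (t i' * Int.gcdB (g - 1) D)
          (fun j' => if i' = j' then -(t i' * Int.gcdA (g - 1) D) else 0) j) i
    let b : LinearMap.BilinForm ℤ (Fin (n + 1) → ℤ) := Matrix.toBilin bb Mb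
    have hbb : ∀ i j, b (bb i) (bb j) = Mb i j := fun i j => by
      have h := LinearMap.congr_fun (LinearMap.congr_fun (rfl : b = Matrix.toBilin bb Mb) (bb i)) (bb j)
      rw [h, ← BilinForm.toMatrix_apply bb, BilinForm.toMatrix_toBilin]
    have hsymm : b.IsSymm := by
      refine ⟨fun x y => ?_⟩
      have hflip : b = b.flip := LinearMap.ext_basis bb bb fun i j => by
        show b (bb i) (bb j) = b (bb j) (bb i)
        rw [hbb, hbb]
        refine Fin.cases ?_ (fun i' => ?_) i <;> refine Fin.cases ?_ (fun j' => ?_) j <;>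
          simp [Mb, eq_comm]
        split_ifs with h
        · rw [h]
        · rfl
      exact LinearMap.congr_fun (LinearMap.congr_fun hflip x) y
    let ψ : (Fin (n + 1) → ℤ) →+ ZMod δ :=
      AddMonoidHom.mk' (fun x => ((b d x + (1 - g) * b x x : ℤ) : ZMod δ)) fun x y => by
        have hxy : b y x = b x y := hsymm.eq y x
        have e : b d (x + y) + (1 - g) * b (x + y) (x + y) =
            (b d x + (1 - g) * b x x) + (b d y + (1 - g) * b y y) - 2 * (g - 1) * b x y := by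
          simp only [map_add, LinearMap.add_apply, hxy]; ring
        show _ = ((_ : ℤ) : ZMod δ) + ((_ : ℤ) : ZMod δ)
        rw [e, Int.cast_sub, Int.cast_mul, h2, zero_mul, sub_zero, Int.cast_add]
    have hψ : φ = ψ := by
      apply (evalEquiv n δ bb).injective
      refine Prod.ext ?_ (funext fun i => ?_)
      · show φ (bb 0) = ((b d (bb 0) + (1 - g) * b (bb 0) (bb 0) : ℤ) : ZMod δ)
        rw [hd, map_smul, LinearMap.smul_apply, hbb, ← hk, zsmul_eq_mul]
        simp [Mb]; ring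
      · show φ (bb i.succ) = ((b d (bb i.succ) + (1 - g) * b (bb i.succ) (bb i.succ) : ℤ) : ZMod δ)
        rw [hd, map_smul, LinearMap.smul_apply, hbb, hbb, ← ht i, zsmul_eq_mul, Int.gcd_eq_gcd_ab]
        simp [Mb]; ring
    exact hψ ▸ AddSubgroup.subset_closure ⟨b, hsymm, fun x => rfl⟩

theorem nonempty_closure_equiv (hδ0 : 0 < δ) (hδ : (δ : ℤ) ∣ 2 * (g - 1)) :
    Nonempty (AddSubgroup.closure (boundarySet n δ g d) ≃+
      (ZMod (δ / Int.gcd δ (Finset.univ.gcd d + 1 - g)) ×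
        (Fin n → ZMod (δ / Int.gcd δ (Int.gcd (g - 1) (Finset.univ.gcd d)))))) := by
  obtain ⟨bb, hd⟩ := exists_basis_content d
  have hmem := mem_closure_boundarySet_iff n δ g d hδ bb hd
  let A := AddSubgroup.zmultiples ((Finset.univ.gcd d + 1 - g : ℤ) : ZMod δ)
  let C := AddSubgroup.zmultiples (((Int.gcd (g - 1) (Finset.univ.gcd d) : ℕ) : ℤ) : ZMod δ)
  let e₁ : AddSubgroup.closure (boundarySet n δ g d) ≃+ A × (Fin n → C) :=
    { toFun := fun φ => (⟨φ.1 (bb 0), ((hmem _).1 φ.2).1⟩, fun i => ⟨φ.1 (bb i.succ), ((hmem _).1 φ.2).2 i⟩)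
      invFun := fun v => ⟨(evalEquiv n δ bb).symm (v.1.1, fun i => (v.2 i).1), by
        have h := (evalEquiv n δ bb).apply_symm_apply (v.1.1, fun i => (v.2 i).1)
        rw [hmem]
        exact ⟨by rw [show (evalEquiv n δ bb).symm _ (bb 0) = v.1.1 from congrArg Prod.fst h]; exact v.1.2,
          fun i => by rw [show (evalEquiv n δ bb).symm _ (bb i.succ) = (v.2 i).1 from congrFun (congrArg Prod.snd h) i]; exact (v.2 i).2⟩⟩
      left_inv := fun φ => Subtype.ext ((evalEquiv n δ bb).symm_apply_apply φ.1)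
      right_inv := fun v => by
        have h := (evalEquiv n δ bb).apply_symm_apply (v.1.1, fun i => (v.2 i).1)
        exact Prod.ext (Subtype.ext (congrArg Prod.fst h)) (funext fun i => Subtype.ext (congrFun (congrArg Prod.snd h) i))
      map_add' := fun φ ψ => rfl }
  exact ⟨e₁.trans (AddEquiv.prodCongr (zmultEquiv δ hδ0 _) (AddEquiv.piCongrRight fun _ => zmultEquiv δ hδ0 _))⟩

theorem nonempty_quotient_equiv (hδ : (δ : ℤ) ∣ 2 * (g - 1)) :
    Nonempty ((((Fin (n + 1) → ℤ) →+ ZMod δ) ⧸ AddSubgroup.closure (boundarySet n δ g d)) ≃+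
      (ZMod (Int.gcd δ (Finset.univ.gcd d + 1 - g)) ×
        (Fin n → ZMod (Int.gcd δ (Int.gcd (g - 1) (Finset.univ.gcd d)))))) := by
  obtain ⟨bb, hd⟩ := exists_basis_content d
  have hmem := mem_closure_boundarySet_iff n δ g d hδ bb hd
  let p := (ZMod.castHom (Int.gcd_dvd_natAbs_left δ (Finset.univ.gcd d + 1 - g))
    (ZMod (Int.gcd δ (Finset.univ.gcd d + 1 - g)))).toAddMonoidHom
  let q := (ZMod.castHom (Int.gcd_dvd_natAbs_left δ ((Int.gcd (g - 1) (Finset.univ.gcd d) : ℕ) : ℤ))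
    (ZMod (Int.gcd δ (Int.gcd (g - 1) (Finset.univ.gcd d))))).toAddMonoidHom
  let π : ((Fin (n + 1) → ℤ) →+ ZMod δ) →+ (ZMod (Int.gcd δ (Finset.univ.gcd d + 1 - g)) ×
      (Fin n → ZMod (Int.gcd δ (Int.gcd (g - 1) (Finset.univ.gcd d))))) :=
    AddMonoidHom.mk' (fun φ => (p (φ (bb 0)), fun i => q (φ (bb i.succ))))
      fun φ ψ => Prod.ext (map_add p _ _) (funext fun i => map_add q _ _)
  have hπ : Function.Surjective π := by
    rintro ⟨a, v⟩
    obtain ⟨a', ha⟩ := ZMod.castHom_surjective (Int.gcd_dvd_natAbs_left δ (Finset.univ.gcd d + 1 - g)) a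
    choose v' hv using fun i => ZMod.castHom_surjective
      (Int.gcd_dvd_natAbs_left δ ((Int.gcd (g - 1) (Finset.univ.gcd d) : ℕ) : ℤ)) (v i)
    refine ⟨(evalEquiv n δ bb).symm (a', v'), ?_⟩
    have h := (evalEquiv n δ bb).apply_symm_apply (a', v')
    refine Prod.ext ?_ (funext fun i => ?_)
    · show p ((evalEquiv n δ bb).symm (a', v') (bb 0)) = a
      rw [show (evalEquiv n δ bb).symm (a', v') (bb 0) = a' from congrArg Prod.fst h]; exact ha
    · show q ((evalEquiv n δ bb).symm (a', v') (bb i.succ)) = v i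
      rw [show (evalEquiv n δ bb).symm (a', v') (bb i.succ) = v' i from congrFun (congrArg Prod.snd h) i]; exact hv i
  have hker : AddSubgroup.closure (boundarySet n δ g d) = π.ker := AddSubgroup.ext fun φ => by
    rw [hmem, AddMonoidHom.mem_ker, mem_zmultiples_intCast_iff]
    simp only [mem_zmultiples_intCast_iff]
    exact ⟨fun h => Prod.ext h.1 (funext h.2), fun h => ⟨congrArg Prod.fst h, congrFun (congrArg Prod.snd h)⟩⟩
  exact ⟨(QuotientAddGroup.quotientAddEquivOfEq hker).trans (QuotientAddGroup.quotientKerEquivOfSurjective π hπ)⟩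

end

end Groth.Agent.FBaseLib
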