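import Mathlib

/-! # Formal glueing of maps along a flat map which is surjective modulo an ideal -/

set_option autoImplicit false

universe u

open TensorProduct

namespace Groth.Agent.FBaseLib

variable {R S : Type u} [CommRing R] [CommRing S] [Algebra R S] (I : Ideal R)

theorem ker_lTensor_exact [Module.Flat R S] {M N : Type u} [AddCommGroup M] [Module R M] [AddCommGroup N]
    [Module R N] (ψ : M →ₗ[R] N) (z : S ⊗[R] M) (hz : ψ.lTensor S z = 0) :
    ∃ w, (LinearMap.ker ψ).subtype.lTensor S w = z :=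
  (Module.Flat.lTensor_exact S (LinearMap.exact_subtype_ker_map ψ) z).1 hz

/-- Surjectivity modulo an ideal propagates to its powers. -/
theorem exists_sub_mem_map_pow (hs : ∀ s : S, ∃ r : R, s - algebraMap R S r ∈ I.map (algebraMap R S)) (n : ℕ) (s : S) :
    ∃ r : R, s - algebraMap R S r ∈ (I ^ n).map (algebraMap R S) := by
  induction n generalizing s with
  | zero => exact ⟨0, by simp [Ideal.map_top]⟩
  | succ n ih =>
    obtain ⟨r, hr⟩ := ih s
    suffices h : ∀ y ∈ (I ^ n).map (algebraMap R S), ∃ r : R, y - algebraMap R S r ∈ (I ^ (n + 1)).map (algebraMap R S) by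
      obtain ⟨r', hr'⟩ := h _ hr
      exact ⟨r + r', by rw [map_add, ← sub_sub]; exact hr'⟩
    intro y hy
    induction hy using Submodule.span_induction with
    | mem z hz => obtain ⟨a, -, rfl⟩ := hz; exact ⟨a, by simp⟩
    | zero => exact ⟨0, by simp⟩
    | add a b _ _ iha ihb =>
      obtain ⟨p, hp⟩ := iha
      obtain ⟨q, hq⟩ := ihb
      exact ⟨p + q, by rw [map_add, add_sub_add_comm]; exact add_mem hp hq⟩
    | smul a y hy' ihy =>
      obtain ⟨p, hp⟩ := ihy
      obtain ⟨b, hb⟩ := hs a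
      refine ⟨b * p, ?_⟩
      have e : a • y - algebraMap R S (b * p) =
          (a - algebraMap R S b) * y + algebraMap R S b * (y - algebraMap R S p) := by
        rw [smul_eq_mul, map_mul]; ring
      rw [e]
      refine add_mem ?_ (Ideal.mul_mem_left _ _ hp)
      rw [pow_succ', Ideal.map_mul]
      exact Ideal.mul_mem_mul hb hy'

variable (hs : ∀ s : S, ∃ r : R, s - algebraMap R S r ∈ I.map (algebraMap R S))
include hs

/-- On torsion elements the action of `S` is that of `R`. -/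
theorem tmul_eq_one_tmul_smul {T : Type u} [AddCommGroup T] [Module R T] [Module S T] [IsScalarTower R S T] (t : T)
    (ht : ∃ n : ℕ, ∀ a ∈ I ^ n, algebraMap R S a • t = 0) (s : S) :
    ∃ r : R, s • t = r • t ∧ s ⊗ₜ[R] t = (1 : S) ⊗ₜ[R] (r • t) := by
  obtain ⟨n, hn⟩ := ht
  obtain ⟨r, hr⟩ := exists_sub_mem_map_pow I hs n s
  suffices h : ∀ y ∈ (I ^ n).map (algebraMap R S), y • t = 0 ∧ y ⊗ₜ[R] t = 0 by
    obtain ⟨h1, h2⟩ := h _ hr
    rw [sub_smul, sub_eq_zero, algebraMap_smul] at h1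
    rw [sub_tmul, sub_eq_zero] at h2
    exact ⟨r, h1, by rw [h2, ← TensorProduct.smul_tmul, Algebra.smul_def, mul_one]⟩
  intro y hy
  induction hy using Submodule.span_induction with
  | mem z hz =>
    obtain ⟨a, ha, rfl⟩ := hz
    refine ⟨hn a ha, ?_⟩
    rw [Algebra.algebraMap_eq_smul_one, TensorProduct.smul_tmul, ← algebraMap_smul S a t, hn a ha, tmul_zero]
  | zero => simp
  | add a b _ _ iha ihb => exact ⟨by rw [add_smul, iha.1, ihb.1, add_zero], by rw [add_tmul, iha.2, ihb.2, add_zero]⟩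
  | smul a y _ ihy =>
    refine ⟨by rw [smul_eq_mul, mul_smul, ihy.1, smul_zero], ?_⟩
    rw [← TensorProduct.smul_tmul', ihy.2, smul_zero]

/-- Formal glueing of maps. -/
theorem exists_formal_glue [Module.Flat R S] (N : Type u) [AddCommGroup N] [Module R N] (M' : Type u)
    [AddCommGroup M'] [Module S M'] (φ : M' →ₗ[S] S ⊗[R] N)
    (hker : ∀ x : M', φ x = 0 → ∃ n : ℕ, ∀ a ∈ I ^ n, algebraMap R S a • x = 0)
    (hcoker : ∀ y : S ⊗[R] N, ∃ n : ℕ, ∀ a ∈ I ^ n, algebraMap R S a • y ∈ LinearMap.range φ) :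
    ∃ (M : Type u) (_ : AddCommGroup M) (_ : Module R M) (ψ : M →ₗ[R] N) (e : S ⊗[R] M ≃ₗ[S] M'),
      φ ∘ₗ e.toLinearMap = ψ.baseChange S := by
  letI : Module R M' := Module.compHom M' (algebraMap R S)
  haveI : IsScalarTower R S M' := .of_algebraMap_smul fun _ _ => rfl
  let η : N →ₗ[R] S ⊗[R] N := TensorProduct.mk R S N 1
  let M : Submodule R (M' × N) := LinearMap.eqLocus ((φ.restrictScalars R) ∘ₗ LinearMap.fst R M' N) (η ∘ₗ LinearMap.snd R M' N)
  let p : M →ₗ[R] M' := LinearMap.fst R M' N ∘ₗ M.subtype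
  let ψ : M →ₗ[R] N := LinearMap.snd R M' N ∘ₗ M.subtype
  let e₀ : S ⊗[R] M →ₗ[S] M' := p.liftBaseChange S
  have hM : ∀ m : M, φ (p m) = (1 : S) ⊗ₜ[R] ψ m := fun m => m.2
  have hcomm : φ ∘ₗ e₀ = ψ.baseChange S := by
    refine TensorProduct.AlgebraTensorModule.curry_injective (LinearMap.ext_ring (LinearMap.ext fun m => ?_))
    show φ (e₀ ((1 : S) ⊗ₜ[R] m)) = ψ.baseChange S ((1 : S) ⊗ₜ[R] m)
    rw [LinearMap.baseChange_tmul, LinearMap.liftBaseChange_tmul, one_smul, hM]
  let C := (S ⊗[R] N) ⧸ LinearMap.range φ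
  let q : N →ₗ[R] C := (LinearMap.range φ).mkQ.restrictScalars R ∘ₗ η
  have htor : ∀ c : C, ∃ n : ℕ, ∀ a ∈ I ^ n, algebraMap R S a • c = 0 := fun c => by
    obtain ⟨y, rfl⟩ := Submodule.mkQ_surjective _ c
    obtain ⟨n, hn⟩ := hcoker y
    exact ⟨n, fun a ha => by rw [← map_smul]; exact (Submodule.Quotient.mk_eq_zero _).2 (hn a ha)⟩
  have hq : Function.Surjective q := fun c => by
    obtain ⟨y, rfl⟩ := Submodule.mkQ_surjective _ c
    induction y using TensorProduct.induction_on with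
    | zero => exact ⟨0, by rw [map_zero, map_zero]⟩
    | add a b ha hb =>
      obtain ⟨n, hn⟩ := ha
      obtain ⟨n', hn'⟩ := hb
      exact ⟨n + n', by rw [map_add, map_add, hn, hn']⟩
    | tmul s n =>
      obtain ⟨r, hr, -⟩ := tmul_eq_one_tmul_smul I hs (q n) (htor _) s
      refine ⟨r • n, ?_⟩
      rw [map_smul, ← hr]
      show s • (LinearMap.range φ).mkQ ((1 : S) ⊗ₜ[R] n) = _
      rw [← map_smul, TensorProduct.smul_tmul', smul_eq_mul, mul_one]
  have hexq : Function.Exact ψ q := fun n => by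
    constructor
    · intro h
      obtain ⟨x, hx⟩ := (Submodule.Quotient.mk_eq_zero _).1 (show (LinearMap.range φ).mkQ (η n) = 0 from h)
      exact ⟨⟨(x, n), hx⟩, rfl⟩
    · rintro ⟨m, rfl⟩
      exact (Submodule.Quotient.mk_eq_zero _).2 ⟨p m, hM m⟩
  refine ⟨M, inferInstance, inferInstance, ψ, LinearEquiv.ofBijective e₀ ⟨?_, fun x => ?_⟩, hcomm⟩
  · rw [injective_iff_map_eq_zero]
    intro z hz
    have h0 : ψ.lTensor S z = 0 := by
      have := LinearMap.congr_fun hcomm z
      rw [LinearMap.comp_apply, hz, map_zero, LinearMap.baseChange_eq_ltensor] at this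
      exact this.symm
    obtain ⟨w, rfl⟩ := ker_lTensor_exact ψ z h0
    have hw : ∀ w : S ⊗[R] LinearMap.ker ψ, ∃ k : LinearMap.ker ψ, w = (1 : S) ⊗ₜ[R] k := by
      intro w
      induction w using TensorProduct.induction_on with
      | zero => exact ⟨0, by rw [tmul_zero]⟩
      | add a b ha hb =>
        obtain ⟨k, rfl⟩ := ha
        obtain ⟨k', rfl⟩ := hb
        exact ⟨k + k', by rw [tmul_add]⟩
      | tmul s k =>
        have hk0 : φ (p k.1) = 0 := by rw [hM, show ψ k.1 = 0 from k.2, tmul_zero]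
        obtain ⟨n, hn⟩ := hker _ hk0
        obtain ⟨r, hr⟩ := exists_sub_mem_map_pow I hs n s
        refine ⟨r • k, ?_⟩
        rw [← sub_eq_zero, TensorProduct.tmul_smul, TensorProduct.smul_tmul', ← sub_tmul, Algebra.smul_def, mul_one]
        suffices h : ∀ y ∈ (I ^ n).map (algebraMap R S), y ⊗ₜ[R] k = 0 from h _ hr
        intro y hy
        induction hy using Submodule.span_induction with
        | mem z hz =>
          obtain ⟨a, ha, rfl⟩ := hz
          have hak : a • k = 0 := by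
            apply Subtype.ext; apply Subtype.ext
            refine Prod.ext (hn a ha) ?_
            show a • ψ k.1 = 0
            rw [show ψ k.1 = 0 from k.2, smul_zero]
          rw [Algebra.algebraMap_eq_smul_one, TensorProduct.smul_tmul, hak, tmul_zero]
        | zero => rw [zero_tmul]
        | add a b _ _ iha ihb => rw [add_tmul, iha, ihb, add_zero]
        | smul a y _ ihy => rw [← TensorProduct.smul_tmul', ihy, smul_zero]
    obtain ⟨k, rfl⟩ := hw w
    rw [LinearMap.lTensor_tmul] at hz ⊢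
    have h1 : p k.1 = 0 := by rwa [LinearMap.liftBaseChange_tmul, one_smul] at hz
    have hk : (LinearMap.ker ψ).subtype k = 0 := Subtype.ext (Prod.ext h1 k.2)
    rw [hk, tmul_zero]
  · have hclass : ((LinearMap.range φ).mkQ (φ x)) = 0 := (Submodule.Quotient.mk_eq_zero _).2 ⟨x, rfl⟩
    have hinv : ∀ y : S ⊗[R] N, (1 : S) ⊗ₜ[R] (LinearMap.range φ).mkQ y = q.lTensor S y := by
      intro y
      induction y using TensorProduct.induction_on with
      | zero => rw [map_zero, map_zero, tmul_zero]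
      | add a b ha hb => rw [map_add, map_add, tmul_add, ha, hb]
      | tmul s n =>
        obtain ⟨r, hr, hr'⟩ := tmul_eq_one_tmul_smul I hs (q n) (htor _) s
        rw [LinearMap.lTensor_tmul, hr', ← hr]
        show _ ⊗ₜ[R] _ = (1 : S) ⊗ₜ[R] (s • (LinearMap.range φ).mkQ ((1 : S) ⊗ₜ[R] n))
        rw [← map_smul, TensorProduct.smul_tmul', smul_eq_mul, mul_one]
    have hx0 : q.lTensor S (φ x) = 0 := by rw [← hinv, hclass, tmul_zero]
    obtain ⟨z, hz⟩ := (lTensor_exact S hexq hq _).1 hx0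
    have hz' : φ (e₀ z) = φ x := by
      rw [← LinearMap.comp_apply, hcomm, LinearMap.baseChange_eq_ltensor]; exact hz
    have h0 : φ (x - e₀ z) = 0 := by rw [map_sub, hz', sub_self]
    let k : M := ⟨(x - e₀ z, 0), by
      show φ (x - e₀ z) = η 0
      rw [h0, map_zero]⟩
    refine ⟨z + (1 : S) ⊗ₜ[R] k, ?_⟩
    rw [map_add, LinearMap.liftBaseChange_tmul, one_smul]
    exact add_sub_cancel (e₀ z) x

end Groth.Agent.FBaseLib
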