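import Groth.Agent.FBaseLib.SepCount
import Groth.Agent.GeomIrred.Connected
import Mathlib

/-!
Components of a base change to a Galois extension splitting the residue fields are geometrically irreducible.
-/

set_option autoImplicit false
set_option linter.style.haveILetI false
set_option backward.isDefEq.respectTransparency false

universe u

open CategoryTheory CategoryTheory.Limits AlgebraicGeometry TensorProduct Topology TopologicalSpace

noncomputable section

namespace Groth.Agent.FBaseLib

theorem isIrreducible_preimage_image {T S X' B B' : Scheme.{u}} (t : T ⟶ S) (s : S ⟶ B)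
    [GeometricallyIrreducible t] [UniversallyOpen t] (g : B' ⟶ B) {f' : X' ⟶ B} (r : T ⟶ X')
    (hr : Function.Injective r) (h : r ≫ f' = t ≫ s) (q : S) (q' : ↥(pullback s g))
    (hq : ∀ z, pullback.fst s g z = q ↔ z = q') :
    IsIrreducible (pullback.fst f' g ⁻¹' (r '' (t ⁻¹' {q}))) := by
  let A : Set ↥(pullback (t ≫ s) g) := pullback.fst (t ≫ s) g ⁻¹' (t ⁻¹' {q})
  have hA : IsIrreducible A := by
    let e := pullbackRightPullbackFstIso s g t
    have h1 : IsIrreducible (pullback.snd t (pullback.fst s g) ⁻¹' {q'}) :=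
      (pullback.snd t (pullback.fst s g)).isIrreducible_preimage (Scheme.Hom.isOpenMap _) isIrreducible_singleton
    have h2 := h1.image e.hom e.hom.continuous.continuousOn
    convert h2 using 1
    ext z
    have hz : e.hom (e.inv z) = z := by
      rw [← Scheme.Hom.comp_apply, e.inv_hom_id]; rfl
    have hc : pullback.fst s g (pullback.snd t (pullback.fst s g) (e.inv z)) =
        t (pullback.fst (t ≫ s) g z) := by
      rw [← Scheme.Hom.comp_apply, ← Scheme.Hom.comp_apply, ← Scheme.Hom.comp_apply,
        ← pullback.condition, pullbackRightPullbackFstIso_inv_fst_assoc]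
    constructor
    · intro hzA
      exact ⟨e.inv z, (hq _).1 (hc.trans hzA), hz⟩
    · rintro ⟨w, hw, rfl⟩
      have hw' : e.inv (e.hom w) = w := by
        rw [← Scheme.Hom.comp_apply, e.hom_inv_id]; rfl
      rw [hw'] at hc
      exact hc.symm.trans ((hq _).2 hw)
  let m : pullback (t ≫ s) g ⟶ pullback f' g :=
    pullback.map _ _ _ _ r (𝟙 _) (𝟙 _) (by rw [Category.comp_id, h]) (by simp)
  have hm : ∀ w, pullback.fst f' g (m w) = r (pullback.fst (t ≫ s) g w) := fun w => by
    rw [← Scheme.Hom.comp_apply, pullback.lift_fst, Scheme.Hom.comp_apply]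
  convert hA.image m m.continuous.continuousOn using 1
  ext z
  constructor
  · rintro ⟨a, ha, hz⟩
    have : z ∈ Set.range m := by
      rw [Scheme.Pullback.range_map]
      exact ⟨⟨a, hz⟩, ⟨pullback.snd f' g z, rfl⟩⟩
    obtain ⟨w, rfl⟩ := this
    refine ⟨w, ?_, rfl⟩
    show t (pullback.fst (t ≫ s) g w) = q
    rw [← hr (hz.trans (hm w))]
    exact ha
  · rintro ⟨w, hw, rfl⟩
    exact ⟨_, hw, (hm w).symm⟩

variable {k : Type u} [Field k]

theorem existsUnique_sfib (K k'' : Type u) [Field K] [Algebra k K] [Field k''] [Algebra k k''] [Normal k k'']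
    [FiniteDimensional k (separableClosure k K)] (ι : separableClosure k K →ₐ[k] k'')
    (L : Type u) [Field L] [Algebra k'' L] (q : sfib k K k'') :
    ∃ q', ∀ z, pullback.fst (pullback.snd (Spec.map (CommRingCat.ofHom (algebraMap k (separableClosure k K))))
      (Spec.map (CommRingCat.ofHom (algebraMap k k'')))) (Spec.map (CommRingCat.ofHom (algebraMap k'' L))) z = q ↔
        z = q' := by
  letI : Algebra k L := ((algebraMap k'' L).comp (algebraMap k k'')).toAlgebra
  let F := Spec.map (CommRingCat.ofHom (algebraMap k (separableClosure k K)))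
  let g := Spec.map (CommRingCat.ofHom (algebraMap k k''))
  let g' := Spec.map (CommRingCat.ofHom (algebraMap k'' L))
  let p := pullback.fst (pullback.snd F g) g'
  haveI : Surjective g' := GeomIrred.surjective_specMap_field k'' L
  let e : pullback (pullback.snd F g) g' ≅ sfib k K L :=
    pullbackLeftPullbackSndIso F g g' ≪≫ pullback.congrHom rfl (by
      show _ = Spec.map (CommRingCat.ofHom (algebraMap k L))
      rw [← Spec.map_comp]; rfl)
  haveI := (finite_sfib k K L).1
  haveI : Finite ↥(pullback (pullback.snd F g) g') := Finite.of_equiv _ e.hom.homeomorph.toEquiv.symm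
  have hb : Function.Bijective p := by
    refine p.surjective.bijective_of_nat_card_le ?_
    rw [Nat.card_congr e.hom.homeomorph.toEquiv]
    exact (finite_sfib k K L).2.2.trans_eq (card_sfib_of_normal k K k'' ι).symm
  obtain ⟨q', hq'⟩ := hb.2 q
  exact ⟨q', fun z => ⟨fun hz => hb.1 (hz.trans hq'.symm), fun hz => hz ▸ hq'⟩⟩

variable {X : Scheme.{u}} (f : X ⟶ Spec (CommRingCat.of k)) (k'' : Type u) [Field k''] [Algebra k k'']
  [Normal k k''] (x : X) [Algebra k (X.residueField x)]
  [FiniteDimensional k (separableClosure k (X.residueField x))]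
  (hφ : Spec.map (CommRingCat.ofHom (algebraMap k (X.residueField x))) = X.fromSpecResidueField x ≫ f)

include hφ in
/-- The fibre over `x` is covered by irreducible sets with irreducible preimage in every further extension. -/
theorem exists_pieces (ι : separableClosure k (X.residueField x) →ₐ[k] k'') :
    ∃ (Q : Type u) (_ : Finite Q) (Y : Q → Set ↥(FBase.bc f k'')),
      (∀ q, IsIrreducible (Y q)) ∧ (∀ q, Y q ⊆ FBase.bcπ f k'' ⁻¹' {x}) ∧
      (∀ z, FBase.bcπ f k'' z = x → ∃ q, z ∈ Y q) ∧
      ∀ (q : Q) (L : Type u) [Field L] [Algebra k'' L],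
        IsIrreducible (FBase.bcπ (FBase.bcStr f k'') L ⁻¹' Y q) := by
  let g := Spec.map (CommRingCat.ofHom (algebraMap k k''))
  let r : pullback (Spec.map (CommRingCat.ofHom (algebraMap k (X.residueField x)))) g ⟶ pullback f g :=
    pullback.map _ _ _ _ (X.fromSpecResidueField x) (𝟙 _) (𝟙 _) (by rw [Category.comp_id, ← hφ]) (by simp)
  obtain ⟨hr, hrange⟩ : IsPreimmersion r ∧ Set.range r = FBase.bcπ f k'' ⁻¹' {x} := by
    have h : r = (pullback.congrHom hφ rfl).hom ≫ (pullbackRightPullbackFstIso f g (X.fromSpecResidueField x)).inv ≫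
        pullback.snd (X.fromSpecResidueField x) (pullback.fst f g) := by
      apply pullback.hom_ext
      · simp only [r, Category.assoc, pullback.lift_fst, ← pullback.condition,
          pullbackRightPullbackFstIso_inv_fst_assoc, pullback.congrHom_hom, pullback.lift_fst_assoc,
          Category.comp_id]
      · simp only [r, Category.assoc, pullback.lift_snd, Category.comp_id,
          pullbackRightPullbackFstIso_inv_snd_snd, pullback.congrHom_hom]
    refine ⟨by rw [h]; infer_instance, ?_⟩
    show Set.range r = pullback.fst f g ⁻¹' {x}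
    rw [Scheme.Pullback.range_map]
    erw [X.range_fromSpecResidueField]
    ext z
    simp
  haveI := hr
  let t := toSfib k (X.residueField x) k''
  obtain ⟨hgi, huo⟩ := toSfib_props k (X.residueField x) k''
  haveI : GeometricallyIrreducible t := hgi
  haveI : UniversallyOpen t := huo
  haveI := (finite_sfib k (X.residueField x) k'').1
  refine ⟨sfib k (X.residueField x) k'', inferInstance, fun q => r '' (t ⁻¹' {q}), fun q => ?_, fun q => ?_,
    fun z hz => ?_, fun q L _ _ => ?_⟩
  · exact (t.isIrreducible_preimage t.isOpenMap isIrreducible_singleton).image _ r.continuous.continuousOn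
  · rintro _ ⟨a, -, rfl⟩
    exact hrange ▸ ⟨a, rfl⟩
  · obtain ⟨a, rfl⟩ : z ∈ Set.range r := hrange ▸ hz
    exact ⟨t a, a, rfl, rfl⟩
  · obtain ⟨q', hq'⟩ := existsUnique_sfib (X.residueField x) k'' ι L q
    refine isIrreducible_preimage_image t (pullback.snd _ _) _ r r.isEmbedding.injective ?_ q q' hq'
    show r ≫ pullback.snd f g = t ≫ pullback.snd _ _
    rw [pullback.lift_snd, Category.comp_id]
    exact ((pullback.lift_snd _ _ _).trans (Category.comp_id _)).symm

omit [Normal k k''] in
theorem isOpenMap_bcπ : IsOpenMap (FBase.bcπ f k'') := by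
  haveI : UniversallyOpen (FBase.bcπ f k'') :=
    MorphismProperty.pullback_fst (P := @UniversallyOpen) _ _ inferInstance
  exact Scheme.Hom.isOpenMap _

omit [Normal k k''] in
theorem isClosedMap_bcπ [Algebra.IsAlgebraic k k''] : IsClosedMap (FBase.bcπ f k'') := by
  haveI : IsIntegralHom (Spec.map (CommRingCat.ofHom (algebraMap k k''))) := by
    rw [IsIntegralHom.SpecMap_iff]
    exact fun y => Algebra.IsIntegral.isIntegral y
  haveI : IsIntegralHom (FBase.bcπ f k'') := MorphismProperty.pullback_fst (P := @IsIntegralHom) _ _ inferInstance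
  exact Scheme.Hom.isClosedMap _

omit [Normal k k''] in
theorem eq_genericPoint_component (z : ↥(FBase.bc f k'')) (hz : z ∈ genericPoints ↥(FBase.bc f k''))
    (Z : Set X) (hZ : Z ∈ irreducibleComponents X) (hzZ : FBase.bcπ f k'' z ∈ Z) :
    FBase.bcπ f k'' z = hZ.1.genericPoint := by
  haveI : Flat (FBase.bcπ f k'') := MorphismProperty.pullback_fst (P := @Flat) _ _ inferInstance
  have hs : hZ.1.genericPoint ⤳ FBase.bcπ f k'' z :=
    hZ.1.isGenericPoint_genericPoint_closure.specializes (subset_closure hzZ)
  obtain ⟨z', hz', e⟩ := Flat.generalizingMap (FBase.bcπ f k'') hs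
  have : z' = z := (hz'.antisymm (specializes_iff_closure_subset.2
    (hz.2 isIrreducible_singleton.closure (specializes_iff_closure_subset.1 hz')))).eq
  rwa [this] at e

omit [Normal k k''] in
theorem isIrreducible_preimage_component (Z' : Set ↥(FBase.bc f k'')) (hZ' : Z' ∈ irreducibleComponents _)
    (Y : Set ↥(FBase.bc f k'')) (hY : IsIrreducible Y) (hη : hZ'.1.genericPoint ∈ Y) (L : Type u) [Field L]
    [Algebra k'' L] (hYL : IsIrreducible (FBase.bcπ (FBase.bcStr f k'') L ⁻¹' Y)) :
    IsIrreducible (FBase.bcπ (FBase.bcStr f k'') L ⁻¹' Z') := by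
  have hsub : Z' ⊆ closure Y := by
    refine subset_trans ?_ (closure_mono (Set.singleton_subset_iff.2 hη))
    rw [hZ'.1.isGenericPoint_genericPoint_closure.def]
    exact subset_closure
  have : Z' = closure Y := Set.Subset.antisymm hsub (hZ'.2 hY.closure hsub)
  rw [this, (isOpenMap_bcπ (FBase.bcStr f k'') L).preimage_closure_eq_closure_preimage
    (Scheme.Hom.continuous _)]
  exact hYL.closure

/-- A connected component contains a member of any finite family of connected sets meeting all clopens. -/
theorem exists_subset_connectedComponent {T I : Type u} [TopologicalSpace T] [Finite I] (Y : I → Set T)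
    (hY : ∀ i, IsPreconnected (Y i)) (h : ∀ U : Set T, IsClopen U → U.Nonempty → ∃ i, (Y i ∩ U).Nonempty)
    (t : T) : IsClosed (connectedComponent t) ∧ ∃ i, (Y i).Nonempty ∧ Y i ⊆ connectedComponent t := by
  haveI : ∀ i, PreconnectedSpace ↥(Y i) := fun i => isPreconnected_iff_preconnectedSpace.1 (hY i)
  let S := {i : I // (Y i).Nonempty}
  haveI : Finite (_root_.ConnectedComponents (Σ i, ↥(Y i))) := by
    refine Finite.of_surjective (fun i : S => ConnectedComponents.mk ⟨i.1, i.2.some, i.2.some_mem⟩) ?_
    intro c
    obtain ⟨⟨i, y⟩, rfl⟩ := ConnectedComponents.surjective_coe c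
    refine ⟨⟨i, y, y.2⟩, ConnectedComponents.coe_eq_coe'.2 ?_⟩
    exact (isPreconnected_range (continuous_sigmaMk (σ := fun i => ↥(Y i)) (i := i))).subset_connectedComponent
      ⟨y, rfl⟩ ⟨_, rfl⟩
  obtain ⟨hfin, -⟩ := connectedComponents_of_forall_clopen (T := T)
    (φ := fun w : Σ i, ↥(Y i) => w.2.1) (continuous_sigma fun i => continuous_subtype_val) fun U hU hne => by
      obtain ⟨i, y, hy, hyU⟩ := h U hU hne
      exact ⟨⟨i, y, hy⟩, hyU⟩
  haveI := hfin
  refine ⟨isClosed_connectedComponent, ?_⟩
  have hclo : IsClopen (connectedComponent t) := by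
    rw [← connectedComponents_preimage_singleton]
    exact (isClopen_discrete _).preimage ConnectedComponents.continuous_coe
  obtain ⟨i, y, hy, hyc⟩ := h _ hclo ⟨t, mem_connectedComponent⟩
  refine ⟨i, ⟨y, hy⟩, ?_⟩
  rw [connectedComponent_eq hyc]
  exact (hY i).subset_connectedComponent hy

/-- A finite Galois extension receiving finitely many finite separable extensions. -/
theorem exists_galois {I : Type u} [Finite I] (K : I → Type u) [∀ i, Field (K i)] [∀ i, Algebra k (K i)]
    [∀ i, FiniteDimensional k (K i)] [∀ i, Algebra.IsSeparable k (K i)] :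
    ∃ (N : Type u) (_ : Field N) (_ : Algebra k N), FiniteDimensional k N ∧ Algebra.IsSeparable k N ∧
      Normal k N ∧ ∀ i, Nonempty (K i →ₐ[k] N) := by
  let Ω := SeparableClosure k
  let ι : ∀ i, K i →ₐ[k] Ω := fun i => IsSepClosed.lift
  haveI : ∀ i, FiniteDimensional k (ι i).fieldRange := fun i =>
    (AlgEquiv.ofInjectiveField (ι i)).toLinearEquiv.finiteDimensional
  let S : IntermediateField k Ω := ⨆ i, (ι i).fieldRange
  haveI : FiniteDimensional k S := IntermediateField.finiteDimensional_iSup_of_finite
  let N := IntermediateField.normalClosure k S Ω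
  refine ⟨N, inferInstance, inferInstance, inferInstance, inferInstance, inferInstance, fun i => ?_⟩
  have hle : (ι i).fieldRange ≤ N :=
    (le_iSup (fun i => (ι i).fieldRange) i).trans (IntermediateField.le_normalClosure S)
  exact ⟨(ι i).codRestrict N.toSubalgebra fun y => hle ⟨y, rfl⟩⟩

end Groth.Agent.FBaseLib
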