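import Mathlib

/-!
# Properties tested on geometric fibres
-/

set_option autoImplicit false
set_option linter.style.haveILetI false

universe u

open CategoryTheory CategoryTheory.Limits AlgebraicGeometry

namespace Groth.Agent.FBaseLib

variable (P : ∀ (k : Type u) [Field k] (Z : Scheme.{u}), (Z ⟶ Spec (CommRingCat.of k)) → Prop)
  (hiso : ∀ (k : Type u) [Field k] (Z Z' : Scheme.{u}) (e : Z ≅ Z') (g : Z' ⟶ Spec (CommRingCat.of k)),
    P k Z' g → P k Z (e.hom ≫ g))

include hiso in
theorem prop_of_isPullback {k : Type u} [Field k] {X T Z : Scheme.{u}} {f : X ⟶ T} {σ : Spec (CommRingCat.of k) ⟶ T}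
    {a : Z ⟶ X} {b : Z ⟶ Spec (CommRingCat.of k)} (hZ : IsPullback a b f σ) :
    P k Z b ↔ P k (pullback f σ) (pullback.snd f σ) := by
  constructor
  · intro h
    have := hiso k _ _ hZ.isoPullback.symm b h
    rwa [Iso.symm_hom, IsPullback.isoPullback_inv_snd] at this
  · intro h
    have := hiso k _ _ hZ.isoPullback (pullback.snd f σ) h
    rwa [IsPullback.isoPullback_hom_snd] at this

theorem forall_geometricPoint_iff
    (hiso : ∀ (k : Type u) [Field k] (Z Z' : Scheme.{u}) (e : Z ≅ Z') (g : Z' ⟶ Spec (CommRingCat.of k)),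
      P k Z' g → P k Z (e.hom ≫ g))
    (hext : ∀ (k K : Type u) [Field k] [Field K] (i : k →+* K) (Z : Scheme.{u}) (g : Z ⟶ Spec (CommRingCat.of k)),
      P k Z g → P K (pullback g (Spec.map (CommRingCat.ofHom i))) (pullback.snd g (Spec.map (CommRingCat.ofHom i))))
    {X T : Scheme.{u}} (f : X ⟶ T) :
    (∀ (k : Type u) [Field k] [IsAlgClosed k] (σ : Spec (CommRingCat.of k) ⟶ T),
        P k (pullback f σ) (pullback.snd f σ)) ↔
      ∀ t : T, P (AlgebraicClosure ↥(T.residueField t))
        (pullback f (Spec.map (CommRingCat.ofHom (algebraMap ↥(T.residueField t) (AlgebraicClosure ↥(T.residueField t)))) ≫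
          T.fromSpecResidueField t))
        (pullback.snd f (Spec.map (CommRingCat.ofHom (algebraMap ↥(T.residueField t) (AlgebraicClosure ↥(T.residueField t)))) ≫
          T.fromSpecResidueField t)) := by
  refine ⟨fun h t => h _ _, fun h k _ _ σ => ?_⟩
  obtain ⟨⟨t, φ⟩, rfl⟩ : ∃ p, (Scheme.SpecToEquivOfField k T).symm p = σ := ⟨_, (Scheme.SpecToEquivOfField k T).symm_apply_apply σ⟩
  letI : Algebra ↥(T.residueField t) k := φ.hom.toAlgebra
  let ψ : AlgebraicClosure ↥(T.residueField t) →ₐ[↥(T.residueField t)] k := IsAlgClosed.lift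
  let τ := Spec.map (CommRingCat.ofHom (algebraMap ↥(T.residueField t) (AlgebraicClosure ↥(T.residueField t)))) ≫
          T.fromSpecResidueField t
  have hτ : Spec.map (CommRingCat.ofHom ψ.toRingHom) ≫ τ = (Scheme.SpecToEquivOfField k T).symm ⟨t, φ⟩ := by
    show _ = Spec.map φ ≫ T.fromSpecResidueField t
    simp only [τ, ← Category.assoc, ← Spec.map_comp, ← CommRingCat.ofHom_comp]
    congr 3
    exact ψ.comp_algebraMap
  rw [← hτ]
  have h2 := (IsPullback.of_hasPullback (pullback.snd f τ) (Spec.map (CommRingCat.ofHom ψ.toRingHom))).flip.paste_vert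
    (IsPullback.of_hasPullback f τ).flip |>.flip
  exact (prop_of_isPullback P hiso h2).1 (hext _ k ψ.toRingHom _ _ (h t))

include hiso in
theorem forall_geometricPoint_of_surjective
    (hext : ∀ (k K : Type u) [Field k] [Field K] (i : k →+* K) (Z : Scheme.{u}) (g : Z ⟶ Spec (CommRingCat.of k)),
      P k Z g ↔ P K (pullback g (Spec.map (CommRingCat.ofHom i))) (pullback.snd g (Spec.map (CommRingCat.ofHom i))))
    {X T X' T' : Scheme.{u}} (f : X ⟶ T) (h : T' ⟶ T) [Surjective h] (f' : X' ⟶ T') (h' : X' ⟶ X)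
    (sq : IsPullback h' f' f h)
    (H : ∀ (k : Type u) [Field k] [IsAlgClosed k] (σ' : Spec (CommRingCat.of k) ⟶ T'),
        P k (pullback f' σ') (pullback.snd f' σ'))
    (k : Type u) [Field k] [IsAlgClosed k] (σ : Spec (CommRingCat.of k) ⟶ T) :
    P k (pullback f σ) (pullback.snd f σ) := by
  let W := pullback σ h
  obtain ⟨z, -⟩ := (pullback.fst σ h).surjective (IsLocalRing.closedPoint k)
  let Ω := AlgebraicClosure ↥(W.residueField z)
  let a₀ : Spec (CommRingCat.of Ω) ⟶ W :=
    Spec.map (CommRingCat.ofHom (algebraMap ↥(W.residueField z) Ω)) ≫ W.fromSpecResidueField z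
  obtain ⟨i, hi⟩ := Spec.map_surjective (a₀ ≫ pullback.fst σ h)
  rw [hext k Ω i.hom]
  let a : Spec (CommRingCat.of Ω) ⟶ T' := a₀ ≫ pullback.snd σ h
  have hcomm : Spec.map (CommRingCat.ofHom i.hom) ≫ σ = a ≫ h := by
    show Spec.map i ≫ σ = _
    rw [hi, Category.assoc, pullback.condition]
    simp only [a, Category.assoc]
  have h1 := (IsPullback.of_hasPullback f' a).paste_horiz sq
  rw [← hcomm] at h1
  have h2 := (IsPullback.of_hasPullback (pullback.snd f σ) (Spec.map (CommRingCat.ofHom i.hom))).flip.paste_vert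
    (IsPullback.of_hasPullback f σ).flip |>.flip
  exact (prop_of_isPullback P hiso h2).2 ((prop_of_isPullback P hiso h1).1 (H Ω a))

end Groth.Agent.FBaseLib
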