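import Groth.Agent.Henselization.Transfer
import Groth.Agent.EtaleLib.Reduced

/-! # Geometric reducedness passes to strict henselizations -/

set_option autoImplicit false

universe u

open TensorProduct

namespace Groth.Agent.FBaseLib

open Groth.Agent.Henselization

variable (k F : Type u) [CommRing k] [Field F] [Algebra k F]

theorem isReduced_tensor_etale {A S : Type u} [CommRing A] [CommRing S] [Algebra k A] [Algebra k S] [Algebra A S]
    [IsScalarTower k A S] [Algebra.Etale A S] [IsReduced (F ⊗[k] A)] : IsReduced (F ⊗[k] S) := by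
  haveI : IsReduced (A ⊗[k] F) := isReduced_of_injective (Algebra.TensorProduct.comm k A F) (AlgEquiv.injective _)
  haveI : IsReduced ((A ⊗[k] F) ⊗[A] S) := EtaleLib.isReduced_of_etale (A := A ⊗[k] F) _
  haveI : IsReduced (S ⊗[A] (A ⊗[k] F)) :=
    isReduced_of_injective (Algebra.TensorProduct.comm A S (A ⊗[k] F)) (AlgEquiv.injective _)
  haveI : IsReduced (S ⊗[k] F) :=
    isReduced_of_injective (Algebra.TensorProduct.cancelBaseChange k A A S F).symm (AlgEquiv.injective _)
  exact isReduced_of_injective (Algebra.TensorProduct.comm k F S) (AlgEquiv.injective _)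

theorem isReduced_tensor_localization {S L : Type u} [CommRing S] [CommRing L] [Algebra k S] [Algebra k L]
    [Algebra S L] [IsScalarTower k S L] (M : Submonoid S) [IsLocalization M L] [IsReduced (F ⊗[k] S)] :
    IsReduced (F ⊗[k] L) := by
  letI : Algebra (F ⊗[k] S) (F ⊗[k] L) :=
    (Algebra.TensorProduct.map (AlgHom.id F F) (IsScalarTower.toAlgHom k S L)).toRingHom.toAlgebra
  haveI : IsScalarTower F (F ⊗[k] S) (F ⊗[k] L) := .of_algebraMap_eq fun x => by
    show _ = Algebra.TensorProduct.map (AlgHom.id F F) (IsScalarTower.toAlgHom k S L) (x ⊗ₜ 1)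
    simp
  haveI := IsLocalization.tensorProduct_tensorProduct_right k F M L (by ext x; show _ = _; simp [RingHom.algebraMap_toAlgebra])
  exact isReduced_localizationPreserves (M.map (Algebra.TensorProduct.includeRight (R := k) (A := F))) _ ‹_›

theorem isReduced_tensor_Hz [Module.Flat k F] {A K : Type u} [CommRing A] [Algebra k A] [Field K] [Algebra A K]
    [IsReduced (F ⊗[k] A)] {R : Type u} [CommRing R] [Algebra A R] [Algebra k R] [IsScalarTower k A R]
    (e : Hz A K ≃ₐ[A] R) : IsReduced (F ⊗[k] R) := by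
  refine ⟨fun z hz => ?_⟩
  classical
  obtain ⟨t, ht⟩ := TensorProduct.exists_finset z
  obtain ⟨i, hi⟩ := exists_lift_finset (t.image fun p => e.symm p.2)
  letI : Algebra k i.S := Algebra.compHom _ (algebraMap k A)
  haveI : IsScalarTower k A i.S := .of_algebraMap_eq fun _ => rfl
  letI : Algebra k i.L := Algebra.compHom _ (algebraMap k A)
  haveI : IsScalarTower k A i.L := .of_algebraMap_eq fun _ => rfl
  haveI : IsScalarTower k i.S i.L := .of_algebraMap_eq fun x => by
    rw [IsScalarTower.algebraMap_apply k A i.L, IsScalarTower.algebraMap_apply k A i.S,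
      ← IsScalarTower.algebraMap_apply A i.S i.L]
  haveI : IsReduced (F ⊗[k] i.S) := isReduced_tensor_etale k F (A := A)
  haveI : IsReduced (F ⊗[k] i.L) := isReduced_tensor_localization k F (S := i.S) i.q.primeCompl
  let ψ : i.L →ₐ[k] R := (e.toAlgHom.comp (ι i)).restrictScalars k
  have hψ : Function.Injective (Algebra.TensorProduct.map (AlgHom.id k F) ψ) :=
    Module.Flat.lTensor_preserves_injective_linearMap (M := F) ψ.toLinearMap (e.injective.comp (ι_injective i))
  have hz' : z ∈ (Algebra.TensorProduct.map (AlgHom.id k F) ψ).range := by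
    rw [ht]
    refine sum_mem fun p hp => ?_
    obtain ⟨x, hx⟩ := hi _ (Finset.mem_image_of_mem _ hp)
    refine ⟨p.1 ⊗ₜ x, ?_⟩
    show Algebra.TensorProduct.map (AlgHom.id k F) ψ (p.1 ⊗ₜ x) = _
    rw [Algebra.TensorProduct.map_tmul]
    show p.1 ⊗ₜ e (ι i x) = _
    rw [hx, e.apply_symm_apply]
  obtain ⟨w, rfl⟩ := hz'
  rw [(IsNilpotent.map_iff hψ).1 hz |>.eq_zero]
  exact map_zero _

end Groth.Agent.FBaseLib
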