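import Groth.Agent.IdealStalkLib.Cartier
import Groth.Agent.IdealStalkLib.Comap
import Groth.Agent.RedSepLib.Basic
import Groth.Agent.ASp.DecentDim
import Groth.Agent.S2498
import Groth.Agent.FBaseLib.ReducedProd
import Mathlib

/-!
Lengths of local rings at maximal points of a flat base change.
-/

set_option autoImplicit false
set_option linter.style.haveILetI false
set_option backward.isDefEq.respectTransparency false

universe u

open CategoryTheory CategoryTheory.Limits AlgebraicGeometry TensorProduct IsLocalRing
open Groth.Agent

noncomputable section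

namespace Groth.Agent.FBaseLib

theorem length_eq_quotient_ker {O R : Type u} [CommRing O] [CommRing R] (φ : O →+* R) (hφ : Function.Surjective φ) :
    Module.length R R = Module.length O (O ⧸ RingHom.ker φ) := by
  letI := φ.toAlgebra
  rw [← Module.length_eq_of_surjective (S := O) (R := R) (M := R) hφ]
  exact ((Ideal.quotientKerAlgEquivOfSurjective (f := Algebra.ofId O R) hφ).toLinearEquiv.length_eq).symm

theorem length_stalk_of_iso {X Y : Scheme.{u}} (e : X ⟶ Y) [IsIso e] (z : X) :
    Module.length (X.presheaf.stalk z) (X.presheaf.stalk z) =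
      Module.length (Y.presheaf.stalk (e z)) (Y.presheaf.stalk (e z)) := by
  have hb : Function.Bijective (e.stalkMap z).hom := ConcreteCategory.bijective_of_isIso (e.stalkMap z)
  rw [length_eq_quotient_ker (e.stalkMap z).hom hb.2, (RingHom.injective_iff_ker_eq_bot _).1 hb.1]
  exact (Submodule.quotEquivOfEqBot ⊥ rfl).length_eq

theorem maximal_stalkIdeal_nilradical {X : Scheme.{u}} {x : X} (h : ∀ v : X, v ⤳ x → v = x) :
    IntMult.stalkIdeal X.nilradical x = maximalIdeal (X.presheaf.stalk x) := by
  refine le_antisymm (IdealStalkLib.stalkIdeal_le_maximal _ (by rw [Scheme.support_nilradical]; trivial)) ?_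
  obtain ⟨z, rfl⟩ : x ∈ Set.range X.nilradical.subschemeι := by
    rw [Scheme.IdealSheafData.range_subschemeι, Scheme.support_nilradical]; trivial
  rw [← IdealStalkLib.ker_stalkMap_subschemeι]
  haveI := RedSepLib.isReduced_nilradical X
  haveI : _root_.IsReduced (X.nilradical.subscheme.presheaf.stalk z) := inferInstance
  haveI : Ring.KrullDimLE 0 (X.presheaf.stalk (X.nilradical.subschemeι z)) :=
    Ring.krullDimLE_iff.2 (ASp.ringKrullDim_stalk_eq_zero h).le
  intro w hw
  rw [RingHom.mem_ker]
  have hnil : IsNilpotent w := by
    rw [← mem_nilradical, Ring.KrullDimLE.nilradical_eq_maximalIdeal]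
    exact hw
  exact (hnil.map _).eq_zero

variable {X B T : Scheme.{u}} (s : X ⟶ B) (g : T ⟶ B) [Flat g] [IsLocallyNoetherian X]

theorem maximal_fst {x : ↥(pullback s g)} (hx : ∀ v, v ⤳ x → v = x) :
    ∀ v : X, v ⤳ pullback.fst s g x → v = pullback.fst s g x := fun v hv => by
  obtain ⟨v', hv', e⟩ := Flat.generalizingMap (pullback.fst s g) hv
  rw [← e, hx v' hv']

theorem length_stalk_pullback (w : (X.nilradical.comap (pullback.fst s g)).subscheme)
    (hw : ∀ v, v ⤳ (X.nilradical.comap (pullback.fst s g)).subschemeι w →
      v = (X.nilradical.comap (pullback.fst s g)).subschemeι w) :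
    let x := (X.nilradical.comap (pullback.fst s g)).subschemeι w
    Module.length ((pullback s g).presheaf.stalk x) ((pullback s g).presheaf.stalk x) =
      Module.length (X.presheaf.stalk (pullback.fst s g x)) (X.presheaf.stalk (pullback.fst s g x)) *
        Module.length ((X.nilradical.comap (pullback.fst s g)).subscheme.presheaf.stalk w)
          ((X.nilradical.comap (pullback.fst s g)).subscheme.presheaf.stalk w) := by
  intro x
  let p := pullback.fst s g
  let I := X.nilradical.comap p
  letI : Algebra (X.presheaf.stalk (p x)) ((pullback s g).presheaf.stalk x) := (p.stalkMap x).hom.toAlgebra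
  haveI : IsLocalHom (algebraMap (X.presheaf.stalk (p x)) ((pullback s g).presheaf.stalk x)) :=
    inferInstanceAs (IsLocalHom (p.stalkMap x).hom)
  haveI : Module.Flat (X.presheaf.stalk (p x)) ((pullback s g).presheaf.stalk x) := Flat.stalkMap p x
  haveI : Module.FaithfullyFlat (X.presheaf.stalk (p x)) ((pullback s g).presheaf.stalk x) :=
    Module.FaithfullyFlat.of_flat_of_isLocalHom
  have hR : Module.length (I.subscheme.presheaf.stalk w) (I.subscheme.presheaf.stalk w) =
      Module.length ((pullback s g).presheaf.stalk x) ((pullback s g).presheaf.stalk x ⧸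
        (maximalIdeal (X.presheaf.stalk (p x))).map
          (algebraMap (X.presheaf.stalk (p x)) ((pullback s g).presheaf.stalk x))) := by
    rw [length_eq_quotient_ker (I.subschemeι.stalkMap w).hom (I.subschemeι.stalkMap_surjective w),
      IdealStalkLib.ker_stalkMap_subschemeι, IdealStalkLib.stalkIdeal_comap,
      maximal_stalkIdeal_nilradical (maximal_fst s g hw)]
    rfl
  show _ = _ * Module.length (I.subscheme.presheaf.stalk w) (I.subscheme.presheaf.stalk w)
  rw [hR]
  by_cases htop : Module.length ((pullback s g).presheaf.stalk x) ((pullback s g).presheaf.stalk x ⧸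
      (maximalIdeal (X.presheaf.stalk (p x))).map
        (algebraMap (X.presheaf.stalk (p x)) ((pullback s g).presheaf.stalk x))) = ⊤
  · rw [htop, ENat.mul_top Module.length_pos.ne']
    refine top_unique ?_
    rw [← htop]
    exact Module.length_le_of_surjective (Ideal.Quotient.mkₐ ((pullback s g).presheaf.stalk x) _).toLinearMap
      Ideal.Quotient.mk_surjective
  · have hfin : IsFiniteLength ((pullback s g).presheaf.stalk x) ((pullback s g).presheaf.stalk x ⧸
        (maximalIdeal (X.presheaf.stalk (p x))).map
          (algebraMap (X.presheaf.stalk (p x)) ((pullback s g).presheaf.stalk x))) := Module.length_ne_top_iff.1 htop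
    have e : ((maximalIdeal (X.presheaf.stalk (p x))).map
        (algebraMap (X.presheaf.stalk (p x)) ((pullback s g).presheaf.stalk x)) •
          (⊤ : Submodule ((pullback s g).presheaf.stalk x) ((pullback s g).presheaf.stalk x))) =
        (maximalIdeal (X.presheaf.stalk (p x))).map
          (algebraMap (X.presheaf.stalk (p x)) ((pullback s g).presheaf.stalk x)) := by
      rw [smul_eq_mul, Ideal.mul_top]
    have h := Groth.Agent.S2498.result (A := X.presheaf.stalk (p x)) (B := (pullback s g).presheaf.stalk x)
      (X.presheaf.stalk (p x)) ((pullback s g).presheaf.stalk x) (by rwa [e])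
    rw [e, (TensorProduct.AlgebraTensorModule.rid (X.presheaf.stalk (p x)) ((pullback s g).presheaf.stalk x)
      ((pullback s g).presheaf.stalk x)).length_eq] at h
    exact h

/-- The comparison with the fibre product over the reduced scheme. -/
theorem length_stalk_pullback_red (x : ↥(pullback s g)) (hx : ∀ v, v ⤳ x → v = x)
    (z : ↥(pullback (X.nilradical.subschemeι ≫ s) g))
    (hz : pullback.map (X.nilradical.subschemeι ≫ s) g s g X.nilradical.subschemeι (𝟙 _) (𝟙 _)
      (Category.comp_id _) ((Category.comp_id _).trans (Category.id_comp _).symm) z = x) :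
    Module.length ((pullback s g).presheaf.stalk x) ((pullback s g).presheaf.stalk x) =
      Module.length (X.presheaf.stalk (pullback.fst s g x)) (X.presheaf.stalk (pullback.fst s g x)) *
        Module.length ((pullback (X.nilradical.subschemeι ≫ s) g).presheaf.stalk z)
          ((pullback (X.nilradical.subschemeι ≫ s) g).presheaf.stalk z) := by
  let e := (pullbackRightPullbackFstIso s g X.nilradical.subschemeι).symm ≪≫ pullbackSymmetry _ _ ≪≫
    (X.nilradical.comapIso (pullback.fst s g)).symm
  have he : e.hom ≫ (X.nilradical.comap (pullback.fst s g)).subschemeι =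
      pullback.map (X.nilradical.subschemeι ≫ s) g s g X.nilradical.subschemeι (𝟙 _) (𝟙 _)
        (Category.comp_id _) ((Category.comp_id _).trans (Category.id_comp _).symm) := by
    simp only [e, Iso.trans_hom, Iso.symm_hom, Category.assoc, Scheme.IdealSheafData.comapIso_inv_subschemeι,
      pullbackSymmetry_hom_comp_fst]
    apply pullback.hom_ext
    · simp only [Category.assoc, ← pullback.condition, pullbackRightPullbackFstIso_inv_fst_assoc,
        pullback.lift_fst]
    · simp only [Category.assoc, pullbackRightPullbackFstIso_inv_snd_snd, pullback.lift_snd, Category.comp_id]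
  rw [← he, Scheme.Hom.comp_apply] at hz
  subst hz
  rw [length_stalk_of_iso e.hom z]
  exact length_stalk_pullback s g _ hx

/-- When the fibre product over the reduced scheme is reduced, the length is unchanged. -/
theorem length_stalk_pullback_of_isReduced [AlgebraicGeometry.IsReduced (pullback (X.nilradical.subschemeι ≫ s) g)]
    [IsLocallyNoetherian (pullback (X.nilradical.subschemeι ≫ s) g)]
    (x : ↥(pullback s g)) (hx : ∀ v, v ⤳ x → v = x) :
    Module.length ((pullback s g).presheaf.stalk x) ((pullback s g).presheaf.stalk x) =
      Module.length (X.presheaf.stalk (pullback.fst s g x)) (X.presheaf.stalk (pullback.fst s g x)) := by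
  let j := pullback.map (X.nilradical.subschemeι ≫ s) g s g X.nilradical.subschemeι (𝟙 _) (𝟙 _)
      (Category.comp_id _) ((Category.comp_id _).trans (Category.id_comp _).symm)
  obtain ⟨z, hz⟩ : x ∈ Set.range j := by
    rw [Scheme.Pullback.range_map, Scheme.IdealSheafData.range_subschemeι, Scheme.support_nilradical]
    simp
  rw [length_stalk_pullback_red s g x hx z hz]
  have hj : Topology.IsEmbedding j := by
    have h : j = (pullbackRightPullbackFstIso s g X.nilradical.subschemeι).inv ≫ pullback.snd _ _ := by
      apply pullback.hom_ext
      · simp only [j, Category.assoc, pullback.lift_fst, ← pullback.condition, pullbackRightPullbackFstIso_inv_fst_assoc]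
      · simp only [j, Category.assoc, pullback.lift_snd, Category.comp_id, pullbackRightPullbackFstIso_inv_snd_snd]
    rw [h]
    exact (inferInstance : IsPreimmersion _).isEmbedding
  haveI : Ring.KrullDimLE 0 ((pullback (X.nilradical.subschemeι ≫ s) g).presheaf.stalk z) :=
    Ring.krullDimLE_iff.2 (ASp.ringKrullDim_stalk_eq_zero fun v hv =>
      hj.injective ((hx _ (hz ▸ hv.map j.continuous)).trans hz.symm)).le
  haveI : _root_.IsReduced ((pullback (X.nilradical.subschemeι ≫ s) g).presheaf.stalk z) := inferInstance
  have hfield : IsField ((pullback (X.nilradical.subschemeι ≫ s) g).presheaf.stalk z) :=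
    Ring.KrullDimLE.isField_of_isReduced
  letI := hfield.toField
  haveI : IsSimpleModule ((pullback (X.nilradical.subschemeι ≫ s) g).presheaf.stalk z)
      ((pullback (X.nilradical.subschemeι ≫ s) g).presheaf.stalk z) := inferInstance
  rw [Module.length_eq_one ((pullback (X.nilradical.subschemeι ≫ s) g).presheaf.stalk z)
    ((pullback (X.nilradical.subschemeι ≫ s) g).presheaf.stalk z), mul_one]

end Groth.Agent.FBaseLib
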