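import Groth.Agent.NodeDef.Basic

/-! # The conormal sequence of a first order deformation of a node is exact on the left -/

set_option autoImplicit false

noncomputable section

universe u

open MvPolynomial TensorProduct

namespace Groth.Agent.FBaseLib.NodeConormal

open Groth.Agent.NodeDef

variable {A : Type u} [CommRing A]

theorem opX_apply (s : A) (c : ℤ →₀ A) (i : ℤ) : opX s c (i + 1) = c i * (if 0 ≤ i then 1 else s) := by
  induction c using Finsupp.induction_linear with
  | zero => simp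
  | add a b ha hb => rw [LinearMap.map_add, Finsupp.add_apply, ha, hb, Finsupp.add_apply, add_mul]
  | single j a =>
    rw [opX_single, Finsupp.single_apply, Finsupp.single_apply]
    by_cases h : j = i
    · subst h; simp
    · rw [if_neg (by omega), if_neg h, zero_mul]

theorem opY_apply (s : A) (c : ℤ →₀ A) (i : ℤ) : opY s c (i - 1) = c i * (if i ≤ 0 then 1 else s) := by
  induction c using Finsupp.induction_linear with
  | zero => simp
  | add a b ha hb => rw [LinearMap.map_add, Finsupp.add_apply, ha, hb, Finsupp.add_apply, add_mul]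
  | single j a =>
    rw [opY_single, Finsupp.single_apply, Finsupp.single_apply]
    by_cases h : j = i
    · subst h; simp
    · rw [if_neg (by omega), if_neg h, zero_mul]

/-- The two coordinates have no common annihilator. -/
theorem eq_zero_of_x_y_mul (s : A) (b : R s) (hx : mk s (X 0) * b = 0) (hy : mk s (X 1) * b = 0) : b = 0 := by
  have h1 : ∀ i : ℤ, (basis s).repr b i = coord s b i := fun i => by
    have h : ((basis s).repr : R s →ₗ[A] ℤ →₀ A) = coord s := (basis s).ext fun j => by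
      show (basis s).repr (basis s j) = _
      rw [Module.Basis.repr_self, basis_apply, coord_mono]
    exact DFunLike.congr_fun (LinearMap.congr_fun h b) i
  apply (basis s).repr.injective
  rw [map_zero]
  refine Finsupp.ext fun i => ?_
  rw [h1, Finsupp.zero_apply]
  rcases le_or_gt 0 i with hi | hi
  · have h := DFunLike.congr_fun (coord_x_mul s b).symm (i + 1)
    rw [opX_apply, if_pos hi, mul_one, hx, map_zero, Finsupp.zero_apply] at h
    exact h
  · have h := DFunLike.congr_fun (coord_y_mul s b).symm (i - 1)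
    rw [opY_apply, if_pos hi.le, mul_one, hy, map_zero, Finsupp.zero_apply] at h
    exact h

variable {J : Type u} [AddCommGroup J] [Module A J] [Module Aᵐᵒᵖ J] [IsCentralScalar A J] (τ : TrivSqZeroExt A J)

/-- The relation. -/
abbrev rel : Submodule (R τ.fst) ((R τ.fst ⊗[A] J) × (R τ.fst × R τ.fst)) :=
  Submodule.span (R τ.fst) {(-((1 : R τ.fst) ⊗ₜ[A] τ.snd), (mk τ.fst (X 1), mk τ.fst (X 0)))}

/-- The module of coefficients. -/
def N : Type u := ((R τ.fst ⊗[A] J) × (R τ.fst × R τ.fst)) ⧸ rel τ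

instance : AddCommGroup (N τ) := inferInstanceAs (AddCommGroup (((R τ.fst ⊗[A] J) × (R τ.fst × R τ.fst)) ⧸ rel τ))

instance : Module (R τ.fst) (N τ) := inferInstanceAs (Module (R τ.fst) (((R τ.fst ⊗[A] J) × (R τ.fst × R τ.fst)) ⧸ rel τ))

/-- The right action. -/
instance opModule : Module (R τ.fst)ᵐᵒᵖ (N τ) :=
  Module.compHom (N τ) ((RingHom.id (R τ.fst)).fromOpposite mul_comm)

theorem op_smul_N (b : R τ.fst) (v : N τ) : MulOpposite.op b • v = b • v := rfl

instance centralN : IsCentralScalar (R τ.fst) (N τ) := ⟨fun b v => op_smul_N τ b v⟩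

/-- The class of a triple. -/
def cls : ((R τ.fst ⊗[A] J) × (R τ.fst × R τ.fst)) →ₗ[R τ.fst] N τ := (rel τ).mkQ

/-- The coefficient map. -/
def ιJ (j : J) : N τ := cls τ ((1 : R τ.fst) ⊗ₜ[A] j, (0, 0))

theorem ιJ_add (j j' : J) : ιJ τ (j + j') = ιJ τ j + ιJ τ j' := by
  rw [ιJ, ιJ, ιJ, ← map_add]
  congr 1
  simp [tmul_add]

theorem ιJ_zero : ιJ τ 0 = 0 := by
  rw [ιJ, TensorProduct.tmul_zero]
  exact map_zero (cls τ)

theorem ιJ_smul (a : A) (j : J) : ιJ τ (a • j) = algebraMap A (R τ.fst) a • ιJ τ j := by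
  rw [ιJ, ιJ, ← map_smul]
  congr 1
  refine Prod.ext ?_ (by simp)
  show (1 : R τ.fst) ⊗ₜ[A] (a • j) = algebraMap A (R τ.fst) a • ((1 : R τ.fst) ⊗ₜ[A] j)
  rw [TensorProduct.tmul_smul, algebraMap_smul]

/-- The map on scalars. -/
def fA : TrivSqZeroExt A J →+* TrivSqZeroExt (R τ.fst) (N τ) where
  toFun t := TrivSqZeroExt.inl (algebraMap A _ t.fst) + TrivSqZeroExt.inr (ιJ τ t.snd)
  map_one' := by
    refine TrivSqZeroExt.ext ?_ ?_ <;> simp [ιJ_zero]
  map_mul' a b := by
    refine TrivSqZeroExt.ext ?_ ?_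
    · simp
    · simp [ιJ_add, ιJ_smul, op_smul_eq_smul]
  map_zero' := by
    refine TrivSqZeroExt.ext ?_ ?_ <;> simp [ιJ_zero]
  map_add' a b := by
    refine TrivSqZeroExt.ext ?_ ?_ <;> simp [ιJ_add]

/-- The image of `x`. -/
def xN : TrivSqZeroExt (R τ.fst) (N τ) :=
  TrivSqZeroExt.inl (mk τ.fst (X 0)) + TrivSqZeroExt.inr (cls τ (0, (1, 0)))

/-- The image of `y`. -/
def yN : TrivSqZeroExt (R τ.fst) (N τ) :=
  TrivSqZeroExt.inl (mk τ.fst (X 1)) + TrivSqZeroExt.inr (cls τ (0, (0, 1)))

theorem xN_mul_yN : xN τ * yN τ = fA τ τ := by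
  refine TrivSqZeroExt.ext ?_ ?_
  · simp only [xN, yN, fA, RingHom.coe_mk, MonoidHom.coe_mk, OneHom.coe_mk, TrivSqZeroExt.fst_mul, TrivSqZeroExt.fst_add, TrivSqZeroExt.fst_inl, TrivSqZeroExt.fst_inr, add_zero]
    exact xy τ.fst
  · simp only [xN, yN, fA, RingHom.coe_mk, MonoidHom.coe_mk, OneHom.coe_mk, TrivSqZeroExt.snd_mul,
      TrivSqZeroExt.fst_add, TrivSqZeroExt.fst_inl, TrivSqZeroExt.fst_inr, TrivSqZeroExt.snd_add,
      TrivSqZeroExt.snd_inl, TrivSqZeroExt.snd_inr, add_zero, zero_add]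
    rw [ιJ, op_smul_N, ← map_smul, ← map_smul, ← map_add, ← sub_eq_zero, ← map_sub]
    apply (Submodule.Quotient.mk_eq_zero (rel τ)).2
    refine Submodule.mem_span_singleton.2 ⟨1, ?_⟩
    simp

/-- The lift. -/
def Ψ : R τ →+* TrivSqZeroExt (R τ.fst) (N τ) := lift τ (fA τ) (xN τ) (yN τ) (xN_mul_yN τ)

theorem Ψ_mono_fst (i : ℤ) : (Ψ τ (mono τ i)).fst = mono τ.fst i := by
  unfold mono
  split_ifs <;> rw [map_pow, TrivSqZeroExt.fst_pow, Ψ]
  · rw [lift_mk_X0]; simp [xN]
  · rw [lift_mk_X1]; simp [yN]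

/-- The second coordinate is injective on the ideal generated by `ε`. -/
theorem eq_zero_of_snd_eq_zero {w : R τ}
    (hw : w ∈ (TrivSqZeroExt.kerIdeal A J).map (algebraMap (TrivSqZeroExt A J) (R τ))) (h : (Ψ τ w).snd = 0) :
    w = 0 := by
  classical
  have hc : ∀ i, ((basis τ).repr w i).fst = 0 := by
    clear h
    induction hw using Submodule.span_induction with
    | mem z hz =>
      obtain ⟨t, ht, rfl⟩ := hz
      intro i
      rw [Algebra.algebraMap_eq_smul_one, map_smul, Finsupp.smul_apply, smul_eq_mul, TrivSqZeroExt.fst_mul,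
        show t.fst = 0 from ht, zero_mul]
    | zero => intro i; simp
    | add a b _ _ ha hb => intro i; simp [ha i, hb i]
    | smul r z _ hz =>
      intro i
      rw [← (basis τ).linearCombination_repr z, Finsupp.linearCombination_apply, Finsupp.sum, Finset.smul_sum, map_sum,
        Finsupp.finsetSum_apply, TrivSqZeroExt.fst_sum]
      refine Finset.sum_eq_zero fun j _ => ?_
      rw [smul_comm, map_smul, Finsupp.smul_apply, smul_eq_mul, TrivSqZeroExt.fst_mul, hz j, zero_mul]
  let c := (basis τ).repr w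
  have hw2 : w = ∑ i ∈ c.support, algebraMap (TrivSqZeroExt A J) (R τ) (c i) * mono τ i := by
    conv_lhs => rw [← (basis τ).linearCombination_repr w, Finsupp.linearCombination_apply, Finsupp.sum]
    refine Finset.sum_congr rfl fun i _ => ?_
    rw [smul_eq τ, basis_apply]
  have hS : (Ψ τ w).snd = cls τ (∑ i ∈ c.support, mono τ.fst i ⊗ₜ[A] (c i).snd, ((0, 0) : R τ.fst × R τ.fst)) := by
    rw [hw2, map_sum, TrivSqZeroExt.snd_sum]
    rw [show ((∑ i ∈ c.support, mono τ.fst i ⊗ₜ[A] (c i).snd, ((0, 0) : R τ.fst × R τ.fst))) =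
      ∑ i ∈ c.support, ((mono τ.fst i ⊗ₜ[A] (c i).snd, ((0, 0) : R τ.fst × R τ.fst))) from Prod.ext (by simp [Prod.fst_sum]) (by simp [Prod.snd_sum]),
      map_sum (cls τ)]
    refine Finset.sum_congr rfl fun i _ => ?_
    rw [map_mul, Ψ, lift_algebraMap, ← Ψ, TrivSqZeroExt.snd_mul]
    have e1 : (fA τ (c i)).fst = 0 := by simp [fA, hc i, c]
    have e2 : (fA τ (c i)).snd = ιJ τ (c i).snd := by simp [fA]
    rw [e1, e2]
    refine (congrArg (· + _) (zero_smul (R τ.fst) (Ψ τ (mono τ i)).snd)).trans ?_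
    rw [zero_add, op_smul_N, Ψ_mono_fst, ιJ, ← map_smul]
    congr 1
    simp [TensorProduct.smul_tmul']
  rw [hS] at h
  replace h := (Submodule.Quotient.mk_eq_zero (rel τ)).1 h
  rw [Submodule.mem_span_singleton] at h
  obtain ⟨b, hb⟩ := h
  have h1 := congrArg Prod.fst hb
  have h2 := congrArg (fun v => v.2.1) hb
  have h3 := congrArg (fun v => v.2.2) hb
  simp only [Prod.smul_fst, Prod.smul_snd, smul_eq_mul] at h1 h2 h3
  have hb0 : b = 0 := eq_zero_of_x_y_mul τ.fst b (by rw [mul_comm]; exact h3) (by rw [mul_comm]; exact h2)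
  subst hb0
  replace h1 : (0 : R τ.fst ⊗[A] J) = ∑ i ∈ c.support, mono τ.fst i ⊗ₜ[A] (c i).snd := by
    refine Eq.trans ?_ h1
    exact (zero_smul (R τ.fst) (-((1 : R τ.fst) ⊗ₜ[A] τ.snd))).symm
  have hsnd : ∀ i, (c i).snd = 0 := fun i => by
    have h4 := congrArg (fun v => TensorProduct.lid A J (((Finsupp.lapply i).comp ((basis τ.fst).repr : R τ.fst →ₗ[A] ℤ →₀ A)).rTensor J v)) h1
    simp only [map_zero, map_sum, LinearMap.rTensor_tmul, TensorProduct.lid_tmul, LinearMap.comp_apply,
      Finsupp.lapply_apply, LinearEquiv.coe_coe] at h4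
    simp only [← basis_apply, Module.Basis.repr_self, Finsupp.single_apply, ite_smul, one_smul, zero_smul,
      Finset.sum_ite_eq'] at h4
    by_cases hi : i ∈ c.support
    · rw [if_pos hi] at h4; exact h4.symm
    · rw [Finsupp.notMem_support_iff.1 hi]; rfl
  apply (basis τ).repr.injective
  rw [map_zero]
  exact Finsupp.ext fun i => TrivSqZeroExt.ext (hc i) (hsnd i)


theorem Ψ_algebraMap (t : TrivSqZeroExt A J) : Ψ τ (algebraMap (TrivSqZeroExt A J) (R τ) t) = fA τ t :=
  lift_algebraMap _ _ _ _ _ t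

/-- The second coordinate detects the ideal generated by `ε` through differentials. -/
theorem kerToTensor_injective {B' : Type u} [CommRing B'] [Algebra (TrivSqZeroExt A J) B'] [Algebra A B']
    [IsScalarTower A (TrivSqZeroExt A J) B'] (e : R τ ≃ₐ[TrivSqZeroExt A J] B') :
    Function.Injective (KaehlerDifferential.kerToTensor A B'
      (B' ⧸ Ideal.map (algebraMap (TrivSqZeroExt A J) B') (TrivSqZeroExt.kerIdeal A J))) := by
  rw [injective_iff_map_eq_zero]
  intro z hz
  apply Subtype.ext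
  show (z : B') = 0
  let I := Ideal.map (algebraMap (TrivSqZeroExt A J) B') (TrivSqZeroExt.kerIdeal A J)
  let Φ : B' →+* TrivSqZeroExt (R τ.fst) (N τ) := (Ψ τ).comp e.symm.toRingEquiv.toRingHom
  let φ : B' →+* R τ.fst := (TrivSqZeroExt.fstHom (R τ.fst) (R τ.fst) (N τ)).toRingHom.comp Φ
  have hA : ∀ a : A, Φ (algebraMap A B' a) = TrivSqZeroExt.inl (algebraMap A (R τ.fst) a) := by
    intro a
    show Ψ τ (e.symm (algebraMap A B' a)) = _
    rw [IsScalarTower.algebraMap_apply A (TrivSqZeroExt A J) B', e.symm.commutes, Ψ_algebraMap]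
    refine TrivSqZeroExt.ext ?_ ?_ <;> simp [fA, TrivSqZeroExt.algebraMap_eq_inl, ιJ_zero]
  letI : Algebra B' (R τ.fst) := φ.toAlgebra
  letI : Module B' (N τ) := Module.compHom (N τ) φ
  letI : Module A (N τ) := Module.compHom (N τ) (algebraMap A (R τ.fst))
  have hφA : ∀ a : A, φ (algebraMap A B' a) = algebraMap A (R τ.fst) a := fun a => by
    show (Φ (algebraMap A B' a)).fst = _
    rw [hA, TrivSqZeroExt.fst_inl]
  haveI : IsScalarTower A B' (N τ) := .of_algebraMap_smul fun a v => by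
    show φ (algebraMap A B' a) • v = algebraMap A (R τ.fst) a • v
    rw [hφA]
  let D : Derivation A B' (N τ) := Derivation.mk'
    { toFun := fun b => (Φ b).snd
      map_add' := fun a b => by rw [map_add, TrivSqZeroExt.snd_add]
      map_smul' := fun a b => by
        show (Φ (a • b)).snd = algebraMap A (R τ.fst) a • (Φ b).snd
        rw [Algebra.smul_def, map_mul, TrivSqZeroExt.snd_mul, hA, TrivSqZeroExt.fst_inl, TrivSqZeroExt.snd_inl,
          smul_zero, add_zero] }
    fun a b => by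
      show (Φ (a * b)).snd = φ a • (Φ b).snd + φ b • (Φ a).snd
      rw [map_mul, TrivSqZeroExt.snd_mul, op_smul_eq_smul]
      rfl
  let g : Ω[B'⁄A] →ₗ[B'] N τ := D.liftKaehlerDifferential
  have hI : ∀ b ∈ I, φ b = 0 := fun b hb => by
    have : I ≤ RingHom.ker φ := by
      rw [Ideal.map_le_iff_le_comap]
      intro t ht
      show (Ψ τ (e.symm (algebraMap _ B' t))).fst = 0
      rw [e.symm.commutes, Ψ_algebraMap]
      simp [fA, show t.fst = 0 from ht]
    exact this hb
  have hbot : (I • ⊤ : Submodule B' (N τ)) = ⊥ := by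
    rw [eq_bot_iff, Submodule.smul_le]
    intro b hb v _
    rw [Submodule.mem_bot]
    show φ b • v = 0
    rw [hI b hb]
    exact zero_smul (R τ.fst) v
  have h2 := congrArg (fun v => TensorProduct.quotTensorEquivQuotSMul (N τ) I (g.lTensor (B' ⧸ I) v)) hz
  simp only [map_zero] at h2
  rw [show KaehlerDifferential.kerToTensor A B' (B' ⧸ I) z = (1 : B' ⧸ I) ⊗ₜ[B'] KaehlerDifferential.D A B' (z : B') from rfl,
    LinearMap.lTensor_tmul, TensorProduct.quotTensorEquivQuotSMul_mk_one_tmul, Submodule.Quotient.mk_eq_zero, hbot,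
    Submodule.mem_bot] at h2
  have h3 : (Φ (z : B')).snd = 0 := by
    rw [show g (KaehlerDifferential.D A B' (z : B')) = D (z : B') from D.liftKaehlerDifferential_comp_D _] at h2
    exact h2
  have hzI : (z : B') ∈ I := Ideal.Quotient.eq_zero_iff_mem.1 z.2
  have hw : e.symm (z : B') ∈ (TrivSqZeroExt.kerIdeal A J).map (algebraMap (TrivSqZeroExt A J) (R τ)) := by
    have h := Ideal.mem_map_of_mem e.symm.toRingEquiv.toRingHom hzI
    rw [Ideal.map_map] at h
    rw [show e.symm.toRingEquiv.toRingHom.comp (algebraMap (TrivSqZeroExt A J) B') = algebraMap _ (R τ) from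
      RingHom.ext e.symm.commutes] at h
    exact h
  have h4 := eq_zero_of_snd_eq_zero τ hw h3
  exact e.symm.injective (h4.trans (map_zero e.symm).symm)

end Groth.Agent.FBaseLib.NodeConormal
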