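import Mathlib
import Groth.Agent.S2507

/-!
Reduced modules (no embedded associated primes, length one at associated primes) and flat base change.
-/

set_option autoImplicit false
set_option backward.isDefEq.respectTransparency false
set_option linter.style.haveILetI false

universe u

open TensorProduct

namespace Groth.Agent.FBaseLib

/-- A reduced module. -/
def RedMod (A M : Type u) [CommRing A] [AddCommGroup M] [Module A M] : Prop :=
  ∀ P ∈ associatedPrimes A M, (∀ Q ∈ associatedPrimes A M, Q ≤ P → Q = P) ∧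
    ∀ [P.IsPrime], Module.length (Localization.AtPrime P) (LocalizedModule P.primeCompl M) = 1

theorem exists_residue_map {A M : Type u} [CommRing A] [AddCommGroup M] [Module A M] (P : Ideal A) [P.IsPrime]
    (h : Module.length (Localization.AtPrime P) (LocalizedModule P.primeCompl M) = 1) :
    ∃ φ : M →ₗ[A] P.ResidueField, IsLocalizedModule P.primeCompl φ := by
  obtain ⟨J, hJ, ⟨e⟩⟩ := isSimpleModule_iff_quot_maximal.1 (Module.length_eq_one_iff.1 h)
  obtain rfl := IsLocalRing.eq_maximalIdeal hJ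
  let e' : LocalizedModule P.primeCompl M ≃ₗ[A] P.ResidueField := e.restrictScalars A
  exact ⟨e'.toLinearMap ∘ₗ LocalizedModule.mkLinearMap P.primeCompl M,
    IsLocalizedModule.of_linearEquiv _ _ e'⟩

theorem length_eq_one_of_cyclic {R N : Type u} [CommRing R] [IsLocalRing R] [AddCommGroup N] [Module R N] (y : N)
    (hy : y ≠ 0) (hsurj : Function.Surjective (LinearMap.toSpanSingleton R N y))
    (hm : ∀ a ∈ IsLocalRing.maximalIdeal R, a • y = 0) : Module.length R N = 1 := by
  have hker : LinearMap.ker (LinearMap.toSpanSingleton R N y) = IsLocalRing.maximalIdeal R := by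
    refine le_antisymm (IsLocalRing.le_maximalIdeal fun htop => hy ?_) fun a ha => LinearMap.mem_ker.2 (hm a ha)
    simpa using (LinearMap.mem_ker.1 (htop ▸ trivial : (1 : R) ∈ LinearMap.ker (LinearMap.toSpanSingleton R N y)))
  rw [Module.length_eq_one_iff, isSimpleModule_iff_quot_maximal]
  exact ⟨IsLocalRing.maximalIdeal R, inferInstance,
    ⟨((Submodule.quotEquivOfEq _ _ hker.symm).trans (LinearMap.quotKerEquivOfSurjective _ hsurj)).symm⟩⟩

theorem mem_associatedPrimes_min {C : Type u} [CommRing C] [IsReduced C] [IsNoetherianRing C] {q : Ideal C}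
    (hq : q ∈ associatedPrimes C C) : q ∈ minimalPrimes C := by
  obtain ⟨hp, x, hx⟩ := isAssociatedPrime_iff.1 hq
  obtain ⟨q₀, hq₀, hle⟩ := Ideal.exists_minimalPrimes_le (bot_le : (⊥ : Ideal C) ≤ q)
  suffices q ≤ q₀ from (le_antisymm this hle) ▸ hq₀
  intro z hz
  have hzx : z * x = 0 := by
    rw [hx, Submodule.mem_colon_singleton, Submodule.mem_bot] at hz
    exact hz
  by_contra hzq
  have hxq : x ∈ q₀ := (hq₀.1.1.mem_or_mem (show z * x ∈ q₀ from hzx ▸ q₀.zero_mem)).resolve_left hzq
  have hxx : x * x = 0 := by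
    have : x ∈ q := hle hxq
    rw [hx, Submodule.mem_colon_singleton, Submodule.mem_bot] at this
    exact this
  have h0 : x = 0 := IsNilpotent.eq_zero ⟨2, by rw [pow_two, hxx]⟩
  have htop : q = ⊤ := by
    rw [hx, h0, Ideal.eq_top_iff_one, Submodule.mem_colon_singleton, smul_zero]
    exact Submodule.zero_mem _
  exact hp.ne_top htop

theorem exists_mem_ass_pi {R : Type u} [CommRing R] {ι : Type*} [Finite ι] (N : ι → Type u)
    [∀ i, AddCommGroup (N i)] [∀ i, Module R (N i)] {Q : Ideal R} (hQ : Q ∈ associatedPrimes R (∀ i, N i)) :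
    ∃ i, Q ∈ associatedPrimes R (N i) := by
  haveI := Fintype.ofFinite ι
  obtain ⟨hp, v, hv⟩ := hQ
  have h1 : (⊥ : Submodule R (∀ i, N i)).colon {v} = Finset.univ.inf fun i => (⊥ : Submodule R (N i)).colon {v i} := by
    ext r
    simp [Submodule.mem_colon_singleton, funext_iff, Submodule.mem_finsetInf]
  have h2 : (Finset.univ.inf fun i => (⊥ : Submodule R (N i)).colon {v i}) ≤ Q := by
    rw [← h1, hv]; exact Ideal.le_radical
  obtain ⟨i, -, hi⟩ := hp.inf_le'.1 h2
  refine ⟨i, hp, v i, le_antisymm ?_ (hp.radical_le_iff.2 hi)⟩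
  rw [hv]
  exact Ideal.radical_mono (h1 ▸ Finset.inf_le (Finset.mem_univ i))

section

variable {A B : Type u} [CommRing A] [CommRing B] [Algebra A B] [Module.Flat A B]
  {M : Type u} [AddCommGroup M] [Module A M]

/-- Elements killed by `lTensor B φ` are killed by an element outside `P`. -/
theorem exists_smul_eq_zero_of_lTensor (P : Ideal A) [P.IsPrime] {N : Type u} [AddCommGroup N] [Module A N]
    (φ : M →ₗ[A] N) [IsLocalizedModule P.primeCompl φ] (w : B ⊗[A] M)
    (hw : φ.lTensor B w = 0) : ∃ s : A, s ∉ P ∧ s • w = 0 := by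
  obtain ⟨z, rfl⟩ := (Module.Flat.lTensor_exact B (φ.exact_subtype_ker_map) w).1 hw
  induction z using TensorProduct.induction_on with
  | zero => exact ⟨1, P.primeCompl.one_mem, by simp⟩
  | tmul b m =>
    obtain ⟨s, hs⟩ := (IsLocalizedModule.eq_zero_iff P.primeCompl φ).1 (LinearMap.mem_ker.1 m.2)
    refine ⟨s, s.2, ?_⟩
    rw [LinearMap.lTensor_tmul, ← TensorProduct.tmul_smul, Submodule.subtype_apply]
    rw [show ((s : A) • (m : M)) = s • (m : M) from rfl, hs, TensorProduct.tmul_zero]
  | add a b ha hb =>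
    obtain ⟨s, hs, hsa⟩ := ha (by
      rw [← LinearMap.comp_apply, ← LinearMap.lTensor_comp, φ.exact_subtype_ker_map.linearMap_comp_eq_zero]
      simp)
    obtain ⟨t, ht, htb⟩ := hb (by
      rw [← LinearMap.comp_apply, ← LinearMap.lTensor_comp, φ.exact_subtype_ker_map.linearMap_comp_eq_zero]
      simp)
    refine ⟨s * t, P.primeCompl.mul_mem hs ht, ?_⟩
    rw [map_add, smul_add, mul_comm, mul_smul, hsa, smul_zero, zero_add, mul_comm, mul_smul, htb, smul_zero]

theorem exists_smul_mem_range (P : Ideal A) [P.IsPrime] {N : Type u} [AddCommGroup N] [Module A N]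
    (φ : M →ₗ[A] N) [IsLocalizedModule P.primeCompl φ] (v : B ⊗[A] N) :
    ∃ s : A, s ∉ P ∧ ∃ w, φ.lTensor B w = s • v := by
  induction v using TensorProduct.induction_on with
  | zero => exact ⟨1, P.primeCompl.one_mem, 0, by simp⟩
  | tmul b n =>
    obtain ⟨⟨m, s⟩, hs⟩ := IsLocalizedModule.surj P.primeCompl φ n
    refine ⟨s, s.2, b ⊗ₜ m, ?_⟩
    rw [LinearMap.lTensor_tmul, ← TensorProduct.tmul_smul, ← hs]
    rfl
  | add a b ha hb =>
    obtain ⟨s, hs, wa, hwa⟩ := ha
    obtain ⟨t, ht, wb, hwb⟩ := hb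
    refine ⟨s * t, P.primeCompl.mul_mem hs ht, t • wa + s • wb, ?_⟩
    rw [map_add, map_smul, map_smul, hwa, hwb, smul_add, smul_smul, smul_smul, mul_comm t s]

/-- A prime associated to the fibre ring lies over `P`. -/
theorem comap_eq_of_fibre (P : Ideal A) [P.IsPrime] (q : Ideal (B ⊗[A] P.ResidueField)) [q.IsPrime] :
    q.comap (algebraMap A (B ⊗[A] P.ResidueField)) = P := by
  let i : P.ResidueField →+* B ⊗[A] P.ResidueField := Algebra.TensorProduct.includeRight.toRingHom
  have h : algebraMap A (B ⊗[A] P.ResidueField) = i.comp (algebraMap A P.ResidueField) :=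
    RingHom.ext fun a => ((Algebra.TensorProduct.includeRight : P.ResidueField →ₐ[A] B ⊗[A] P.ResidueField).commutes a).symm
  rw [h, ← Ideal.comap_comap, (Ideal.eq_bot_or_top (q.comap i)).resolve_right (Ideal.comap_ne_top i ‹q.IsPrime›.ne_top),
    ← RingHom.ker_eq_comap_bot, Ideal.ker_algebraMap_residueField]

/-- Every element of the fibre ring is, up to a unit from `A`, the image of an element of `B`. -/
theorem exists_smul_mem_range_one (P : Ideal A) [P.IsPrime] (c : B ⊗[A] P.ResidueField) :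
    ∃ s : A, s ∉ P ∧ ∃ b : B, algebraMap B (B ⊗[A] P.ResidueField) b = s • c := by
  induction c using TensorProduct.induction_on with
  | zero => exact ⟨1, P.primeCompl.one_mem, 0, by simp⟩
  | tmul b n =>
    obtain ⟨z, rfl⟩ := IsLocalRing.residue_surjective (R := Localization.AtPrime P) n
    obtain ⟨⟨a, s⟩, hs⟩ := IsLocalization.surj P.primeCompl z
    refine ⟨s, s.2, algebraMap A B a * b, ?_⟩
    have h : (s : A) • (IsLocalRing.residue (Localization.AtPrime P) z : P.ResidueField) = algebraMap A P.ResidueField a := by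
      rw [Algebra.smul_def, IsScalarTower.algebraMap_apply A (Localization.AtPrime P) P.ResidueField,
        IsScalarTower.algebraMap_apply A (Localization.AtPrime P) P.ResidueField, ← hs, mul_comm z]
      exact (map_mul _ _ _).symm
    rw [← TensorProduct.tmul_smul, h, ← Algebra.smul_def, Algebra.TensorProduct.algebraMap_apply,
      Algebra.algebraMap_self, RingHom.id_apply, TensorProduct.smul_tmul, Algebra.algebraMap_eq_smul_one]
    try simp
  | add a b ha hb =>
    obtain ⟨s, hs, wa, hwa⟩ := ha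
    obtain ⟨t, ht, wb, hwb⟩ := hb
    refine ⟨s * t, P.primeCompl.mul_mem hs ht, t • wa + s • wb, ?_⟩
    rw [map_add, Algebra.smul_def t wa, Algebra.smul_def s wb, map_mul, map_mul, hwa, hwb,
      ← IsScalarTower.algebraMap_apply, ← IsScalarTower.algebraMap_apply, ← Algebra.smul_def, ← Algebra.smul_def,
      smul_add, smul_smul, smul_smul, mul_comm t s]

variable [IsNoetherianRing A] [IsNoetherianRing B] [Module.Finite A M]

set_option maxHeartbeats 1000000 in
/-- If the module is reduced and the fibres at its associated primes are reduced, the base change is reduced. -/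
theorem redMod_baseChange (hM : RedMod A M)
    (hfib : ∀ P ∈ associatedPrimes A M, ∀ [P.IsPrime], IsReduced (B ⊗[A] P.ResidueField)) :
    RedMod B (B ⊗[A] M) := by
  classical
  let S := associatedPrimes A M
  haveI : Finite S := (associatedPrimes.finite A M).to_subtype
  haveI : Fintype S := Fintype.ofFinite S
  choose φ hφ using fun P : S => exists_residue_map P.1 ((hM P.1 P.2).2)
  let Φ : M →ₗ[A] ∀ P : S, P.1.ResidueField := LinearMap.pi φ
  have hΦ : Function.Injective Φ := by
    rw [injective_iff_map_eq_zero]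
    intro m hm
    by_contra hm0
    obtain ⟨P, hP, hle⟩ := exists_le_isAssociatedPrime_of_isNoetherianRing A m hm0
    haveI := hP.isPrime
    haveI := hφ ⟨P, hP⟩
    obtain ⟨s, hs⟩ := (IsLocalizedModule.eq_zero_iff P.primeCompl (φ ⟨P, hP⟩)).1 (congrFun hm ⟨P, hP⟩)
    exact s.2 (hle (Submodule.mem_colon_singleton.2 ((Submodule.mem_bot _).2 hs)))
  let Ψ : (B ⊗[A] M) →ₗ[B] ∀ P : S, B ⊗[A] P.1.ResidueField :=
    (TensorProduct.piRight A B B fun P : S => P.1.ResidueField).toLinearMap ∘ₗ
      TensorProduct.AlgebraTensorModule.lTensor B B Φ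
  have hΨ : Function.Injective Ψ := by
    simp only [Ψ, LinearMap.coe_comp, LinearEquiv.coe_coe, TensorProduct.AlgebraTensorModule.coe_lTensor]
    exact (LinearEquiv.injective _).comp (Module.Flat.lTensor_preserves_injective_linearMap Φ hΦ)
  have key : ∀ Q ∈ associatedPrimes B (B ⊗[A] M), ∃ P : S, ∃ q ∈ minimalPrimes (B ⊗[A] P.1.ResidueField),
      q.comap (algebraMap B (B ⊗[A] P.1.ResidueField)) = Q ∧ Q.comap (algebraMap A B) = P.1 := by
    intro Q hQ
    obtain ⟨P, hP⟩ := exists_mem_ass_pi _ (associatedPrimes.subset_of_injective (f := Ψ) hΨ hQ)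
    haveI : IsReduced (B ⊗[A] P.1.ResidueField) := hfib P.1 P.2
    haveI : IsNoetherianRing (B ⊗[A] P.1.ResidueField) := Algebra.EssFiniteType.isNoetherianRing B _
    rw [Groth.Agent.S2507.result (A := B) (B := B ⊗[A] P.1.ResidueField)] at hP
    obtain ⟨q, hq, rfl⟩ := hP
    haveI := hq.isPrime
    refine ⟨P, q, mem_associatedPrimes_min hq, rfl, ?_⟩
    rw [Ideal.comap_comap, ← IsScalarTower.algebraMap_eq]
    exact comap_eq_of_fibre P.1 q
  intro Q hQ
  obtain ⟨P, q, hq, hqQ, hQP⟩ := key Q hQ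
  haveI : IsReduced (B ⊗[A] P.1.ResidueField) := hfib P.1 P.2
  refine ⟨fun Q' hQ' hle => ?_, ?_⟩
  · obtain ⟨P', q', hq', hqQ', hQP'⟩ := key Q' hQ'
    obtain rfl : P' = P := Subtype.ext ((hM P.1 P.2).1 P'.1 P'.2 (hQP' ▸ hQP ▸ Ideal.comap_mono hle))
    haveI := hq'.1.1
    haveI := hq.1.1
    have hle' : q' ≤ q := by
      intro c hc
      obtain ⟨s, hs, b, hb⟩ := exists_smul_mem_range_one P'.1 c
      have hbQ : b ∈ Q := hle (hqQ' ▸ (show algebraMap B _ b ∈ q' by rw [hb, Algebra.smul_def]; exact q'.mul_mem_left _ hc))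
      rw [← hqQ, Ideal.mem_comap, hb, Algebra.smul_def] at hbQ
      refine (Ideal.IsPrime.mem_or_mem inferInstance hbQ).resolve_left fun h => hs ?_
      rw [← comap_eq_of_fibre P'.1 q]
      exact h
    rw [← hqQ, ← hqQ', le_antisymm hle' (hq.2 ⟨hq'.1.1, bot_le⟩ hle')]
  · intro _
    haveI := hφ P
    obtain ⟨⟨m₀, s₀⟩, hms⟩ := IsLocalizedModule.surj P.1.primeCompl (φ P) 1
    haveI := hq.1.1
    let L := Localization.AtPrime Q
    let f := LocalizedModule.mkLinearMap Q.primeCompl (B ⊗[A] M)
    let y₀ : B ⊗[A] M := (1 : B) ⊗ₜ m₀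
    let ψ : (B ⊗[A] M) →ₗ[B] B ⊗[A] P.1.ResidueField := TensorProduct.AlgebraTensorModule.lTensor B B (φ P)
    have hψ₀ : ψ y₀ = (s₀ : A) • (1 : B ⊗[A] P.1.ResidueField) := by
      show (1 : B) ⊗ₜ φ P m₀ = _
      rw [show φ P m₀ = s₀ • (1 : P.1.ResidueField) from hms.symm, Algebra.TensorProduct.one_def,
        ← TensorProduct.tmul_smul]
      rfl
    have hout : ∀ a : A, a ∉ P.1 → algebraMap A B a ∉ Q := fun a ha h =>
      ha (hQP ▸ Ideal.mem_comap.2 h)
    have hoff : ∀ w, ∀ b : B, ψ w = ψ (b • y₀) → ∃ t : B, t ∉ Q ∧ t • w = t • b • y₀ := by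
      intro w b h
      obtain ⟨t, ht, h0⟩ := exists_smul_eq_zero_of_lTensor P.1 (φ P) (w - b • y₀)
        (show ψ (w - b • y₀) = 0 by rw [map_sub, h, sub_self])
      refine ⟨algebraMap A B t, hout t ht, ?_⟩
      rw [← sub_eq_zero, ← smul_sub (algebraMap A B t) w (b • y₀)]
      exact (algebraMap_smul B t _).trans h0
    have ha : ∀ w, ∃ t : B, t ∉ Q ∧ ∃ b : B, t • w = b • y₀ := by
      intro w
      obtain ⟨s, hs, b, hb⟩ := exists_smul_mem_range_one P.1 (ψ w)
      obtain ⟨t, ht, he⟩ := hoff (algebraMap A B ((s₀ : A) * s) • w) b (by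
        rw [map_smul, map_smul, hψ₀, algebraMap_smul, ← algebraMap_smul (B ⊗[A] P.1.ResidueField) b,
          smul_eq_mul, hb, mul_smul, Algebra.mul_smul_comm, mul_one])
      have hn : algebraMap A B ((s₀ : A) * s) ∉ Q := hout _ (P.1.primeCompl.mul_mem s₀.2 hs)
      refine ⟨t * algebraMap A B ((s₀ : A) * s), fun h => ?_, t * b, ?_⟩
      · exact (Ideal.IsPrime.mem_or_mem hQ.isPrime h).elim ht hn
      · rw [mul_smul, he, ← mul_smul]
    have hb : ∀ z ∈ Q, ∃ t : B, t ∉ Q ∧ t • z • y₀ = 0 := by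
      intro z hz
      have hzq : algebraMap B (B ⊗[A] P.1.ResidueField) z ∈ q := by rwa [← hqQ] at hz
      have hz0 : algebraMap (B ⊗[A] P.1.ResidueField) (Localization.AtPrime q) (algebraMap B _ z) = 0 := by
        refine IsNilpotent.eq_zero ?_
        rw [← mem_nilradical, nilradical_eq_sInf, Submodule.mem_sInf]
        intro J hJ
        haveI : Ideal.IsPrime J := hJ
        have hle : Ideal.comap (algebraMap (B ⊗[A] P.1.ResidueField) _) J ≤ q :=
          ((IsLocalization.isPrime_iff_isPrime_disjoint q.primeCompl (Localization.AtPrime q) J).1 hJ).2.le_compl_left.trans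
            (fun x hx => not_not.1 hx)
        exact hq.2 ⟨inferInstance, bot_le⟩ hle hzq
      obtain ⟨⟨c, hc⟩, hcz⟩ := (IsLocalization.map_eq_zero_iff q.primeCompl _ _).1 hz0
      obtain ⟨s, hs, b, hb⟩ := exists_smul_mem_range_one P.1 c
      have hbQ : b ∉ Q := by
        intro h
        rw [← hqQ, Ideal.mem_comap, hb, Algebra.smul_def] at h
        refine hc ((Ideal.IsPrime.mem_or_mem inferInstance h).resolve_left fun h' => hs ?_)
        rw [← comap_eq_of_fibre P.1 q]
        exact h'
      obtain ⟨t, ht, he⟩ := hoff ((b * z) • y₀) 0 (by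
        rw [zero_smul, map_zero, map_smul, hψ₀, ← algebraMap_smul (B ⊗[A] P.1.ResidueField) (b * z), smul_eq_mul,
          map_mul, hb, Algebra.smul_mul_assoc, Algebra.smul_mul_assoc, show c * algebraMap B _ z = 0 from hcz,
          zero_mul, smul_zero])
      refine ⟨t * b, fun h => (Ideal.IsPrime.mem_or_mem hQ.isPrime h).elim ht hbQ, ?_⟩
      rw [mul_smul, ← mul_smul b z, he, zero_smul, smul_zero]
    have hsurj : Function.Surjective (LinearMap.toSpanSingleton L (LocalizedModule Q.primeCompl (B ⊗[A] M)) (f y₀)) := by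
      intro n
      obtain ⟨⟨w, t⟩, rfl⟩ := IsLocalizedModule.mk'_surjective Q.primeCompl f n
      obtain ⟨t', ht', b, hb'⟩ := ha w
      refine ⟨IsLocalization.mk' L b (⟨t', ht'⟩ * t : Q.primeCompl), ?_⟩
      show IsLocalization.mk' L b (⟨t', ht'⟩ * t : Q.primeCompl) • f y₀ = IsLocalizedModule.mk' f w t
      rw [← IsLocalizedModule.mk'_one Q.primeCompl, IsLocalizedModule.mk'_smul_mk', mul_one, ← hb']
      exact IsLocalizedModule.mk'_cancel_left f w ⟨t', ht'⟩ t
    have hy₀ : f y₀ ≠ 0 := by
      intro h0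
      obtain ⟨hQp, w, hw⟩ := isAssociatedPrime_iff.1 hQ
      obtain ⟨a, hfa⟩ := hsurj (f w)
      have hfw : f w = 0 := by rw [← hfa]; show a • f y₀ = 0; rw [h0, smul_zero]
      obtain ⟨t, ht⟩ := (IsLocalizedModule.eq_zero_iff Q.primeCompl f).1 hfw
      exact t.2 (hw.symm ▸ Submodule.mem_colon_singleton.2 ((Submodule.mem_bot _).2 ht) :)
    refine length_eq_one_of_cyclic (f y₀) hy₀ hsurj fun a ha' => ?_
    obtain ⟨⟨z, t⟩, rfl⟩ := IsLocalization.mk'_surjective Q.primeCompl a
    obtain ⟨t', ht', h0⟩ := hb z ((IsLocalization.AtPrime.mk'_mem_maximal_iff L Q z t).1 ha')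
    rw [← IsLocalizedModule.mk'_one Q.primeCompl, IsLocalizedModule.mk'_smul_mk', mul_one,
      IsLocalizedModule.mk'_eq_zero']
    exact ⟨⟨t', ht'⟩, h0⟩

set_option maxHeartbeats 1000000 in
/-- If the base change of a reduced module is reduced, the fibres at the associated primes are reduced. -/
theorem isReduced_fibre (hM : RedMod A M) (hBM : RedMod B (B ⊗[A] M)) (P : Ideal A) [P.IsPrime]
    (hP : P ∈ associatedPrimes A M) : IsReduced (B ⊗[A] P.ResidueField) := by
  obtain ⟨φ, hφ⟩ := exists_residue_map P (hM P hP).2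
  haveI := hφ
  let C := B ⊗[A] P.ResidueField
  haveI : IsNoetherianRing C := Algebra.EssFiniteType.isNoetherianRing B _
  let ψ : (B ⊗[A] M) →ₗ[B] C := TensorProduct.AlgebraTensorModule.lTensor B B φ
  have hψt : ∀ (a : A) w, ψ (algebraMap A B a • w) = a • ψ w := fun a w => by
    rw [map_smul, algebraMap_smul]
  refine ⟨fun x hxn => by_contra fun hx0 => ?_⟩
  obtain ⟨q, hq, hxq⟩ := exists_le_isAssociatedPrime_of_isNoetherianRing C x hx0
  haveI := hq.isPrime
  obtain ⟨-, v, hv⟩ := isAssociatedPrime_iff.1 hq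
  let Q : Ideal B := q.comap (algebraMap B C)
  have hQP : ∀ a : A, a ∉ P → algebraMap A C a ∉ q := fun a ha h => ha (by
    rw [← comap_eq_of_fibre P q]; exact h)
  have hQP' : ∀ a : A, a ∉ P → algebraMap A B a ∉ Q := fun a ha h => hQP a ha (by
    rw [IsScalarTower.algebraMap_apply A B C]; exact h)
  obtain ⟨s, hs, w, hw⟩ := exists_smul_mem_range P φ v
  have hw' : ψ w = s • v := hw
  haveI : IsNoetherian B (B ⊗[A] M) := inferInstance
  -- a fixed multiple of `w` has annihilator `Q`
  have hker : ∀ b : B, b ∈ Q → ∃ t : A, t ∉ P ∧ algebraMap A B t • b • w = 0 := by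
    intro b hb
    have hbv : algebraMap B C b * v = 0 := by
      have := hv ▸ (show algebraMap B C b ∈ q from hb)
      rw [Submodule.mem_colon_singleton, Submodule.mem_bot] at this
      exact this
    obtain ⟨t, ht, h0⟩ := exists_smul_eq_zero_of_lTensor P φ (b • w) (show ψ (b • w) = 0 by
      rw [map_smul, hw', smul_comm, ← algebraMap_smul C b, smul_eq_mul, hbv, smul_zero])
    exact ⟨t, ht, by rw [algebraMap_smul]; exact h0⟩
  obtain ⟨S, hS⟩ := (inferInstance : IsNoetherianRing B) |> fun h => h.noetherian Q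
  choose! t ht hker using hker
  let T : A := ∏ b ∈ S, t b
  have hT : T ∉ P := by
    have : T ∈ P.primeCompl := P.primeCompl.prod_mem fun b hb => ht b (hS ▸ Ideal.subset_span hb)
    exact this
  let w' : B ⊗[A] M := algebraMap A B T • w
  have hQle : Q ≤ (⊥ : Submodule B (B ⊗[A] M)).colon {w'} := by
    rw [← hS, Ideal.span_le]
    intro b hb
    rw [SetLike.mem_coe, Submodule.mem_colon_singleton, Submodule.mem_bot]
    obtain ⟨c, hc⟩ := Finset.dvd_prod_of_mem t hb
    show b • algebraMap A B T • w = 0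
    rw [show T = c * t b from hc.trans (mul_comm _ _), map_mul, mul_smul, smul_comm b, smul_comm b,
      hker b (hS ▸ Ideal.subset_span hb), smul_zero]
  have hQge : (⊥ : Submodule B (B ⊗[A] M)).colon {w'} ≤ Q := by
    intro b hb
    rw [Submodule.mem_colon_singleton, Submodule.mem_bot] at hb
    have h1 : algebraMap B C b * (algebraMap A C (T * s) * v) = 0 := by
      rw [← Algebra.smul_def (T * s) v, mul_smul, ← hw', ← hψt, ← smul_eq_mul, algebraMap_smul, ← map_smul, hb,
        map_zero]
    have h2 : algebraMap B C b * algebraMap A C (T * s) ∈ q := by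
      rw [hv, Submodule.mem_colon_singleton, Submodule.mem_bot, smul_eq_mul, mul_assoc, h1]
    exact (Ideal.IsPrime.mem_or_mem inferInstance h2).resolve_right (hQP _ (P.primeCompl.mul_mem hT hs))
  have hQass : Q ∈ associatedPrimes B (B ⊗[A] M) :=
    isAssociatedPrime_iff.2 ⟨inferInstance, w', le_antisymm hQle hQge⟩
  obtain ⟨J, hJ, ⟨e⟩⟩ := isSimpleModule_iff_quot_maximal.1 (Module.length_eq_one_iff.1 (hBM Q hQass).2)
  obtain rfl := IsLocalRing.eq_maximalIdeal hJ
  obtain ⟨s₁, hs₁, b, hb⟩ := exists_smul_mem_range_one P x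
  have hbQ : b ∈ Q := by
    show algebraMap B C b ∈ q
    rw [hb, Algebra.smul_def]
    obtain ⟨n, hn⟩ := hxn
    exact q.mul_mem_left _ (hq.isPrime.mem_of_pow_mem n (hn ▸ q.zero_mem))
  obtain ⟨s₂, hs₂, w₁, hw₁⟩ := exists_smul_mem_range P φ (1 : C)
  have hw₁' : ψ w₁ = s₂ • (1 : C) := hw₁
  let L := Localization.AtPrime Q
  let f := LocalizedModule.mkLinearMap Q.primeCompl (B ⊗[A] M)
  have h0 : f (b • w₁) = 0 := by
    apply e.injective
    rw [map_smul, map_zero, ← algebraMap_smul L b, map_smul]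
    obtain ⟨y, hy⟩ := Ideal.Quotient.mk_surjective (e (f w₁))
    rw [← hy, show algebraMap B L b • Ideal.Quotient.mk _ y = Ideal.Quotient.mk _ (algebraMap B L b * y) from rfl,
      Ideal.Quotient.eq_zero_iff_mem]
    exact Ideal.mul_mem_right _ _ ((IsLocalization.AtPrime.to_map_mem_maximal_iff L Q b).2 hbQ)
  obtain ⟨⟨t', ht'⟩, h3⟩ := (IsLocalizedModule.eq_zero_iff Q.primeCompl f).1 h0
  have h4 : algebraMap B C t' * (algebraMap A C (s₁ * s₂) * x) = 0 := by
    have h5 := congrArg ψ (show t' • b • w₁ = 0 from h3)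
    rw [map_smul, map_smul, map_zero, hw₁', ← algebraMap_smul C t', ← algebraMap_smul C b, hb, smul_eq_mul,
      smul_eq_mul, Algebra.smul_def, Algebra.smul_def, mul_one] at h5
    rw [map_mul]
    linear_combination h5
  have h6 : algebraMap B C t' * algebraMap A C (s₁ * s₂) ∈ q :=
    hxq (Submodule.mem_colon_singleton.2 ((Submodule.mem_bot _).2 (by rw [smul_eq_mul, mul_assoc, h4])))
  exact (Ideal.IsPrime.mem_or_mem inferInstance h6).elim ht' (hQP _ (P.primeCompl.mul_mem hs₁ hs₂))

end

section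

variable {A B : Type u} [CommRing A] [CommRing B] [IsNoetherianRing A] [IsNoetherianRing B] [Algebra A B]
  {M N : Type u} [AddCommGroup M] [Module A M] [AddCommGroup N] [Module B N]

/-- Reducedness is preserved by semilinear equivalences. -/
theorem redMod_of_semilinear (e : M ≃+ N) (σ : A ≃+* B) (h : ∀ a m, e (a • m) = σ a • e m)
    (hN : RedMod B N) : RedMod A M := by
  have hass : ∀ P ∈ associatedPrimes A M, P.comap σ.symm.toRingHom ∈ associatedPrimes B N := by
    intro P hP
    obtain ⟨hp, x, hx⟩ := isAssociatedPrime_iff.1 hP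
    haveI := hp
    refine isAssociatedPrime_iff.2 ⟨inferInstance, e x, ?_⟩
    ext b
    rw [Ideal.mem_comap, hx, Submodule.mem_colon_singleton, Submodule.mem_colon_singleton, Submodule.mem_bot,
      Submodule.mem_bot, ← e.map_eq_zero_iff, h]
    simp
  intro P hP
  refine ⟨fun Q hQ hle => ?_, ?_⟩
  · have h1 := (hN _ (hass P hP)).1 _ (hass Q hQ) (Ideal.comap_mono hle)
    exact Ideal.comap_injective_of_surjective _ σ.symm.surjective h1
  · intro _
    haveI : (P.comap σ.symm.toRingHom).IsPrime := inferInstance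
    obtain ⟨φ, hφ⟩ := exists_residue_map _ ((hN _ (hass P hP)).2)
    haveI := hφ
    let f := LocalizedModule.mkLinearMap P.primeCompl M
    have hσP : ∀ a : A, σ a ∈ P.comap σ.symm.toRingHom ↔ a ∈ P := fun a => by simp
    obtain ⟨⟨n₀, s₀⟩, hn₀⟩ := IsLocalizedModule.surj (P.comap σ.symm.toRingHom).primeCompl φ (1 : (P.comap σ.symm.toRingHom).ResidueField)
    refine length_eq_one_of_cyclic (f (e.symm n₀)) ?_ ?_ ?_
    · intro h0
      obtain ⟨⟨t, ht⟩, htx⟩ := (IsLocalizedModule.eq_zero_iff P.primeCompl f).1 h0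
      have h2 : φ (σ t • n₀) = 0 := by
        have := congrArg e (show t • e.symm n₀ = 0 from htx)
        rw [h, e.apply_symm_apply, map_zero] at this
        rw [this, map_zero]
      rw [map_smul, show φ n₀ = s₀ • 1 from hn₀.symm] at h2
      have h3 : algebraMap B (P.comap σ.symm.toRingHom).ResidueField (σ t * s₀) = 0 := by
        rw [Algebra.algebraMap_eq_smul_one, mul_smul]
        exact h2
      rw [Ideal.algebraMap_residueField_eq_zero] at h3
      exact (Ideal.IsPrime.mem_or_mem inferInstance h3).elim (fun h4 => ht ((hσP t).1 h4)) s₀.2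
    · intro n
      obtain ⟨⟨m, t⟩, rfl⟩ := IsLocalizedModule.mk'_surjective P.primeCompl f n
      obtain ⟨z, hz⟩ := IsLocalRing.residue_surjective (R := Localization.AtPrime (P.comap σ.symm.toRingHom)) (φ (e m))
      obtain ⟨⟨a, s⟩, hs⟩ := IsLocalization.surj (P.comap σ.symm.toRingHom).primeCompl z
      have h1 : φ (((s₀ : B) * s) • e m) = φ (a • n₀) := by
        rw [map_smul, map_smul, show φ n₀ = s₀ • 1 from hn₀.symm, Algebra.smul_def, ← hz, Algebra.smul_def,
          show s₀ • (1 : (P.comap σ.symm.toRingHom).ResidueField) = (s₀ : B) • 1 from rfl, Algebra.smul_def, mul_one,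
          map_mul, mul_assoc, mul_comm (algebraMap B _ a),
          IsScalarTower.algebraMap_apply B (Localization.AtPrime (P.comap σ.symm.toRingHom)) _ (s : B),
          IsScalarTower.algebraMap_apply B (Localization.AtPrime (P.comap σ.symm.toRingHom)) _ a, ← hs, mul_comm z]
        exact congrArg _ (map_mul _ _ _).symm
      obtain ⟨u, hu⟩ := (IsLocalizedModule.eq_iff_exists (P.comap σ.symm.toRingHom).primeCompl φ).1 h1
      have hu0 : ∀ b : B, b ∉ P.comap σ.symm.toRingHom → σ.symm b ∈ P.primeCompl := fun b hb => hb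
      let T : P.primeCompl := ⟨σ.symm ((u : B) * ((s₀ : B) * s)), hu0 _
        (mul_mem u.2 (mul_mem s₀.2 s.2) : (u : B) * ((s₀ : B) * s) ∈ (P.comap σ.symm.toRingHom).primeCompl)⟩
      refine ⟨IsLocalization.mk' _ (σ.symm ((u : B) * a)) (T * t), ?_⟩
      rw [LinearMap.toSpanSingleton_apply, ← IsLocalizedModule.mk'_one P.primeCompl, IsLocalizedModule.mk'_smul_mk', mul_one]
      have h2 : σ.symm ((u : B) * a) • e.symm n₀ = T • m := by
        apply e.injective
        show e _ = e (σ.symm ((u : B) * ((s₀ : B) * s)) • m)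
        rw [h, h, σ.apply_symm_apply, σ.apply_symm_apply, e.apply_symm_apply, mul_smul, mul_smul (u : B)]
        exact hu.symm
      rw [h2]
      exact IsLocalizedModule.mk'_cancel_left f m T t
    · intro a ha
      obtain ⟨⟨z, t⟩, rfl⟩ := IsLocalization.mk'_surjective P.primeCompl a
      have hzP := (IsLocalization.AtPrime.mk'_mem_maximal_iff (Localization.AtPrime P) P z t).1 ha
      have h1 : φ (σ z • n₀) = φ 0 := by
        rw [map_smul, map_zero, Algebra.smul_def,
          Ideal.algebraMap_residueField_eq_zero.2 ((hσP z).2 hzP), zero_mul]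
      obtain ⟨u, hu⟩ := (IsLocalizedModule.eq_iff_exists (P.comap σ.symm.toRingHom).primeCompl φ).1 h1
      rw [← IsLocalizedModule.mk'_one P.primeCompl, IsLocalizedModule.mk'_smul_mk', mul_one,
        IsLocalizedModule.mk'_eq_zero']
      refine ⟨⟨σ.symm u, fun h' => u.2 h'⟩, e.injective ?_⟩
      show e (σ.symm u • z • e.symm n₀) = e 0
      rw [h, h, σ.apply_symm_apply, e.apply_symm_apply, map_zero]
      exact hu.trans (smul_zero _)

/-- Fibres of the base change to an extension field. -/
theorem nonempty_fibre_equiv (k : Type u) [CommRing k] (A B K : Type u) [CommRing A] [CommRing B] [CommRing K]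
    [Algebra k A] [Algebra k K] [Algebra k B] [Algebra A B] [Algebra K B] [IsScalarTower k A B] [IsScalarTower k K B]
    [Algebra.IsPushout k A K B] (P : Ideal A) [P.IsPrime] :
    Nonempty (B ⊗[A] P.ResidueField ≃+* P.ResidueField ⊗[k] K) :=
  ⟨((Algebra.TensorProduct.comm A B P.ResidueField).trans
      (Algebra.TensorProduct.congr AlgEquiv.refl (Algebra.IsPushout.equiv k A K B).symm)).toRingEquiv.trans
    (Algebra.TensorProduct.cancelBaseChange k A A P.ResidueField K).toRingEquiv⟩

end

end Groth.Agent.FBaseLib
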