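import Mathlib
import Groth.Agent.FBaseLib.RedMod
import Groth.Agent.AssLib.Noetherian
import Groth.Agent.PullbackMod.Sections
import Groth.Agent.PullbackMod.Props
import Groth.Agent.S4657

/-!
Reduced modules on schemes, read on affine opens, and their base change along field extensions.
-/

set_option autoImplicit false
set_option backward.isDefEq.respectTransparency false
set_option linter.style.haveILetI false

universe u

open CategoryTheory CategoryTheory.Limits AlgebraicGeometry TensorProduct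
open Groth.Agent.PullbackMod

namespace Groth.Agent.FBaseLib

variable {X : Scheme.{u}} [IsLocallyNoetherian X] {F : X.Modules}

theorem length_stalk_eq [Coh.IsQCoh F] {W : X.Opens} (hW : IsAffineOpen W) {x : X} (hx : x ∈ W) :
    Module.length (Localization.AtPrime (AssLib.pr hW hx)) (LocalizedModule (AssLib.pr hW hx).primeCompl Γ(F, W)) =
      Module.length (X.presheaf.stalk x) (F.presheaf.stalk x) := by
  letI := Module.compHom (F.presheaf.stalk x) (X.presheaf.germ W x hx).hom
  haveI := FlatLocus.isLocalizedModule_germL F hW x hx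
  letI : Algebra Γ(X, W) (X.presheaf.stalk x) := TopCat.Presheaf.algebra_section_stalk X.presheaf ⟨x, hx⟩
  haveI : IsLocalization.AtPrime (X.presheaf.stalk x) (AssLib.pr hW hx) := hW.isLocalization_stalk ⟨x, hx⟩
  haveI : IsScalarTower Γ(X, W) (X.presheaf.stalk x) (F.presheaf.stalk x) := .of_algebraMap_smul fun _ _ => rfl
  let σ := IsLocalization.algEquiv (AssLib.pr hW hx).primeCompl (Localization.AtPrime (AssLib.pr hW hx)) (X.presheaf.stalk x)
  let g := FlatLocus.germL F W x hx
  let e := IsLocalizedModule.iso (AssLib.pr hW hx).primeCompl g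
  refine S4657.length_eq_of_semilinear σ.toRingEquiv e.toAddEquiv fun r m => ?_
  show e (r • m) = σ r • e m
  obtain ⟨⟨a, s⟩, rfl⟩ := IsLocalization.mk'_surjective (AssLib.pr hW hx).primeCompl r
  apply (Module.End.isUnit_iff _).1 (IsLocalizedModule.map_units g s) |>.1
  simp only [Module.algebraMap_end_apply]
  rw [← map_smul, ← algebraMap_smul (Localization.AtPrime (AssLib.pr hW hx)) (s : Γ(X, W)), ← mul_smul,
    IsLocalization.mk'_spec' , algebraMap_smul, map_smul, ← algebraMap_smul (X.presheaf.stalk x) (s : Γ(X, W)) (_ • e m),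
    ← mul_smul, ← σ.commutes (s : Γ(X, W)), ← map_mul, IsLocalization.mk'_spec', σ.commutes, algebraMap_smul]

theorem isReducedMod_iff (hF : Coh.IsCoh F) :
    AssSch.IsReducedMod F ↔ ∀ W : X.Opens, IsAffineOpen W → RedMod Γ(X, W) Γ(F, W) := by
  haveI := hF.1
  constructor
  · intro h W hW
    haveI := QCohLib.isNoetherianRing_section hW
    intro P hP
    haveI := hP.isPrime
    let x := AssLib.pt hW ⟨P, inferInstance⟩
    have hx : x ∈ W := AssLib.pt_mem hW _
    have hpr : AssLib.pr hW hx = P := AssLib.pr_pt hW _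
    have hxA : x ∈ AssSch.Ass F := (AssLib.isAssPoint_iff hW hx).2 (hpr.symm ▸ hP)
    refine ⟨fun Q hQ hle => ?_, ?_⟩
    · haveI := hQ.isPrime
      let y := AssLib.pt hW ⟨Q, inferInstance⟩
      have hy : y ∈ W := AssLib.pt_mem hW _
      have hqr : AssLib.pr hW hy = Q := AssLib.pr_pt hW _
      have := h.1 x hxA y ((AssLib.isAssPoint_iff hW hy).2 (hqr.symm ▸ hQ))
        ((AssLib.specializes_iff hW hx hy).2 (by rw [hpr, hqr]; exact hle))
      exact (congrArg PrimeSpectrum.asIdeal (hW.fromSpec.isOpenEmbedding.injective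
        (show AssLib.pt hW ⟨P, inferInstance⟩ = AssLib.pt hW ⟨Q, inferInstance⟩ from this))).symm
    · intro _
      have := length_stalk_eq (F := F) hW hx
      rw [h.2 x hxA] at this
      have key : ∀ (R : Ideal Γ(X, W)) [R.IsPrime], R = P →
          Module.length (Localization.AtPrime R) (LocalizedModule R.primeCompl Γ(F, W)) = 1 →
          Module.length (Localization.AtPrime P) (LocalizedModule P.primeCompl Γ(F, W)) = 1 := by
        intro R _ hR hl
        subst hR
        exact hl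
      exact key _ hpr this
  · intro h
    refine ⟨fun x hx y hy hyx => ?_, fun x hx => ?_⟩
    · obtain ⟨W, hW, hxW, -⟩ := AssLib.exists_affine_mem x (U := ⊤) trivial
      haveI := QCohLib.isNoetherianRing_section hW
      have hyW := AssLib.mem_of_specializes hyx hxW
      have := (h W hW _ ((AssLib.isAssPoint_iff hW hxW).1 hx)).1 _ ((AssLib.isAssPoint_iff hW hyW).1 hy)
        ((AssLib.specializes_iff hW hxW hyW).1 hyx)
      exact (hyx.antisymm ((AssLib.specializes_iff hW hyW hxW).2 this.ge)).eq.symm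
    · obtain ⟨W, hW, hxW, -⟩ := AssLib.exists_affine_mem x (U := ⊤) trivial
      haveI := QCohLib.isNoetherianRing_section hW
      rw [← length_stalk_eq (F := F) hW hxW]
      exact (h W hW _ ((AssLib.isAssPoint_iff hW hxW).1 hx)).2

theorem isReducedMod_of_cover (hF : Coh.IsCoh F)
    (h : ∀ x : X, ∃ (W : X.Opens) (_ : IsAffineOpen W), x ∈ W ∧ RedMod Γ(X, W) Γ(F, W)) :
    AssSch.IsReducedMod F := by
  haveI := hF.1
  refine ⟨fun x hx y hy hyx => ?_, fun x hx => ?_⟩
  · obtain ⟨W, hW, hxW, hr⟩ := h x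
    haveI := QCohLib.isNoetherianRing_section hW
    have hyW := AssLib.mem_of_specializes hyx hxW
    have := (hr _ ((AssLib.isAssPoint_iff hW hxW).1 hx)).1 _ ((AssLib.isAssPoint_iff hW hyW).1 hy)
      ((AssLib.specializes_iff hW hxW hyW).1 hyx)
    exact (hyx.antisymm ((AssLib.specializes_iff hW hyW hxW).2 this.ge)).eq.symm
  · obtain ⟨W, hW, hxW, hr⟩ := h x
    haveI := QCohLib.isNoetherianRing_section hW
    rw [← length_stalk_eq (F := F) hW hxW]
    exact (hr _ ((AssLib.isAssPoint_iff hW hxW).1 hx)).2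

section BaseChange

variable {k : Type u} [Field k] (f : X ⟶ Spec (CommRingCat.of k)) (K : Type u) [Field K] [Algebra k K]

/-- The `k`-algebra structure on sections. -/
noncomputable abbrev secAlg (W : X.Opens) : Algebra k Γ(X, W) :=
  ((f.appLE ⊤ W le_top).hom.comp (Scheme.ΓSpecIso (CommRingCat.of k)).inv.hom).toAlgebra

theorem isPushout_sections {W : X.Opens} (hW : IsAffineOpen W) :
    IsPushout ((Scheme.ΓSpecIso (CommRingCat.of k)).inv ≫ f.appLE ⊤ W le_top)
      (CommRingCat.ofHom (algebraMap k K)) ((FBase.bcπ f K).appLE W (FBase.bcπ f K ⁻¹ᵁ W) le_rfl)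
      ((Scheme.ΓSpecIso (CommRingCat.of K)).inv ≫
        (pullback.snd f (Spec.map (CommRingCat.ofHom (algebraMap k K)))).appLE ⊤ (FBase.bcπ f K ⁻¹ᵁ W) le_top) := by
  let t := Spec.map (CommRingCat.ofHom (algebraMap k K))
  have H : IsPullback (pullback.fst f t) (pullback.snd f t) f t := IsPullback.of_hasPullback f t
  have h1 : (⊤ : (Spec (CommRingCat.of K)).Opens) ≤ t ⁻¹ᵁ ⊤ := le_top
  have hUY : FBase.bcπ f K ⁻¹ᵁ W = pullback.fst f t ⁻¹ᵁ W ⊓ pullback.snd f t ⁻¹ᵁ ⊤ := by
    rw [Scheme.Hom.preimage_top, inf_top_eq]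
    rfl
  haveI : IsIso (pushoutSection H h1 (le_top : W ≤ f ⁻¹ᵁ ⊤) hUY) :=
    isIso_pushoutSection_of_isAffineOpen H h1 le_top hUY (isAffineOpen_top _) (isAffineOpen_top _) hW
  have hp := (isIso_pushoutSection_iff H h1 (le_top : W ≤ f ⁻¹ᵁ ⊤) hUY).1 inferInstance
  refine hp.of_iso (Scheme.ΓSpecIso _) (Iso.refl _) (Scheme.ΓSpecIso _) (Iso.refl _) ?_ ?_ ?_ ?_
  · simp
  · rw [show t.appLE ⊤ ⊤ h1 = t.appTop by simp [Scheme.Hom.appLE]]
    exact Scheme.ΓSpecIso_naturality _
  · simp [FBase.bcπ, t]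
  · simp [FBase.bcπ, t]

theorem redMod_bc_iff [IsLocallyNoetherian (FBase.bc f K)] (hF : Coh.IsCoh F) {W : X.Opens} (hW : IsAffineOpen W)
    (hM : RedMod Γ(X, W) Γ(F, W)) :
    letI := secAlg f W
    RedMod Γ(FBase.bc f K, FBase.bcπ f K ⁻¹ᵁ W) Γ((Scheme.Modules.pullback (FBase.bcπ f K)).obj F, FBase.bcπ f K ⁻¹ᵁ W) ↔
      ∀ P ∈ associatedPrimes Γ(X, W) Γ(F, W), ∀ [P.IsPrime], _root_.IsReduced (P.ResidueField ⊗[k] K) := by
  haveI := hF.1
  let π := FBase.bcπ f K
  haveI : IsAffineHom π := MorphismProperty.pullback_fst (P := @IsAffineHom) _ _ inferInstance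
  let W' := π ⁻¹ᵁ W
  have hW' : IsAffineOpen W' := hW.preimage π
  haveI := QCohLib.isNoetherianRing_section hW
  haveI : IsNoetherianRing Γ(FBase.bc f K, W') := QCohLib.isNoetherianRing_section hW'
  haveI := QCohLib.finite_sections_of_isCoh hF hW
  letI := secAlg f W
  letI : Algebra Γ(X, W) Γ(FBase.bc f K, W') := (π.appLE W W' le_rfl).hom.toAlgebra
  letI : Algebra K Γ(FBase.bc f K, W') :=
    ((Scheme.ΓSpecIso (CommRingCat.of K)).inv ≫
      (pullback.snd f (Spec.map (CommRingCat.ofHom (algebraMap k K)))).appLE ⊤ W' le_top).hom.toAlgebra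
  letI : Algebra k Γ(FBase.bc f K, W') :=
    ((algebraMap Γ(X, W) Γ(FBase.bc f K, W')).comp (algebraMap k Γ(X, W))).toAlgebra
  have hp := isPushout_sections f K hW
  haveI : IsScalarTower k Γ(X, W) Γ(FBase.bc f K, W') := IsScalarTower.of_algebraMap_eq fun _ => rfl
  haveI : IsScalarTower k K Γ(FBase.bc f K, W') := IsScalarTower.of_algebraMap_eq' (congrArg CommRingCat.Hom.hom hp.w)
  haveI : Algebra.IsPushout k Γ(X, W) K Γ(FBase.bc f K, W') := CommRingCat.isPushout_iff_isPushout.1 hp
  haveI : Module.Flat Γ(X, W) Γ(FBase.bc f K, W') :=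
    Module.Flat.of_linearEquiv (Algebra.IsPushout.equiv k Γ(X, W) K Γ(FBase.bc f K, W')).symm.toLinearEquiv
  let G := (Scheme.Modules.pullback π).obj F
  letI := Module.compHom Γ(G, W') (π.appLE W W' le_rfl).hom
  haveI : IsScalarTower Γ(X, W) Γ(FBase.bc f K, W') Γ(G, W') := .of_algebraMap_smul fun _ _ => rfl
  let e := (PullbackMod.isBaseChange_pullMapL π F hW hW' le_rfl).equiv
  constructor
  · intro h P hP _
    have h' : RedMod Γ(FBase.bc f K, W') (Γ(FBase.bc f K, W') ⊗[Γ(X, W)] Γ(F, W)) :=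
      redMod_of_semilinear e.toAddEquiv (RingEquiv.refl _) (fun a m => e.map_smul a m) h
    haveI := isReduced_fibre hM h' P hP
    obtain ⟨E⟩ := nonempty_fibre_equiv k Γ(X, W) Γ(FBase.bc f K, W') K P
    exact isReduced_of_injective E.symm E.symm.injective
  · intro h
    refine redMod_of_semilinear e.symm.toAddEquiv (RingEquiv.refl _) (fun a m => e.symm.map_smul a m) ?_
    refine redMod_baseChange hM fun P hP _ => ?_
    haveI := h P hP
    obtain ⟨E⟩ := nonempty_fibre_equiv k Γ(X, W) Γ(FBase.bc f K, W') K P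
    exact isReduced_of_injective E E.injective

theorem redMod_of_bc_self [IsLocallyNoetherian (FBase.bc f k)] (hF : Coh.IsCoh F) {W : X.Opens} (hW : IsAffineOpen W)
    (h : RedMod Γ(FBase.bc f k, FBase.bcπ f k ⁻¹ᵁ W) Γ((Scheme.Modules.pullback (FBase.bcπ f k)).obj F, FBase.bcπ f k ⁻¹ᵁ W)) :
    RedMod Γ(X, W) Γ(F, W) := by
  haveI := hF.1
  let π := FBase.bcπ f k
  haveI : IsAffineHom π := MorphismProperty.pullback_fst (P := @IsAffineHom) _ _ inferInstance
  let W' := π ⁻¹ᵁ W
  have hW' : IsAffineOpen W' := hW.preimage π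
  haveI := QCohLib.isNoetherianRing_section hW
  haveI : IsNoetherianRing Γ(FBase.bc f k, W') := QCohLib.isNoetherianRing_section hW'
  letI : Algebra Γ(X, W) Γ(FBase.bc f k, W') := (π.appLE W W' le_rfl).hom.toAlgebra
  haveI : IsIso π := by
    haveI : IsIso (Spec.map (CommRingCat.ofHom (algebraMap k k))) := by
      rw [Algebra.algebraMap_self]
      exact inferInstanceAs (IsIso (Spec.map (𝟙 (CommRingCat.of k))))
    exact MorphismProperty.pullback_fst (P := MorphismProperty.isomorphisms Scheme.{u}) f _ ‹_›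
  have hbij : Function.Bijective (algebraMap Γ(X, W) Γ(FBase.bc f k, W')) := by
    haveI : IsIso (π.appLE W W' le_rfl) := by rw [← Scheme.Hom.app_eq_appLE]; infer_instance
    exact ConcreteCategory.bijective_of_isIso (π.appLE W W' le_rfl)
  let G := (Scheme.Modules.pullback π).obj F
  letI := Module.compHom Γ(G, W') (π.appLE W W' le_rfl).hom
  haveI : IsScalarTower Γ(X, W) Γ(FBase.bc f k, W') Γ(G, W') := .of_algebraMap_smul fun _ _ => rfl
  let e := (PullbackMod.isBaseChange_pullMapL π F hW hW' le_rfl).equiv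
  let σ : Γ(X, W) ≃ₐ[Γ(X, W)] Γ(FBase.bc f k, W') := AlgEquiv.ofBijective (Algebra.ofId _ _) hbij
  let l : Γ(F, W) ≃ₗ[Γ(X, W)] Γ(G, W') :=
    (TensorProduct.lid _ _).symm ≪≫ₗ TensorProduct.congr σ.toLinearEquiv (LinearEquiv.refl _ _) ≪≫ₗ
      e.restrictScalars Γ(X, W)
  exact redMod_of_semilinear l.toAddEquiv σ.toRingEquiv (fun a m => (l.map_smul a m).trans
    (IsScalarTower.algebraMap_smul Γ(FBase.bc f k, W') a (l m)).symm) h

end BaseChange

end Groth.Agent.FBaseLib
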