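import Groth.Agent.BranchInv.Hens
import Groth.Agent.BranchInv.Field
import Groth.Agent.HensBranch.QuotStage
import Groth.Agent.SHTensor.Basic
import Groth.Agent.S9407
import Groth.Agent.S2747

/-! # Quotients of strict henselizations of smooth algebras over strictly henselian rings -/

set_option autoImplicit false

universe u

open IsLocalRing

namespace Groth.Agent.FBaseLib

/-- The localization at a prime containing the kernel of a surjection. -/
theorem localRingHom_surjective_and_ker {S B : Type u} [CommRing S] [CommRing B] (π : S →+* B)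
    (hπ : Function.Surjective π) (q' : Ideal B) [q'.IsPrime] (q : Ideal S) [q.IsPrime] (hq : q = q'.comap π) :
    Function.Surjective (Localization.localRingHom q q' π hq) ∧
      RingHom.ker (Localization.localRingHom q q' π hq) =
        (RingHom.ker π).map (algebraMap S (Localization.AtPrime q)) := by
  refine ⟨fun z => ?_, le_antisymm (fun z hz => ?_) ?_⟩
  · obtain ⟨⟨b, c, hc⟩, rfl⟩ := IsLocalization.mk'_surjective q'.primeCompl z
    obtain ⟨r, rfl⟩ := hπ b
    obtain ⟨s, rfl⟩ := hπ c
    exact ⟨IsLocalization.mk' _ r (⟨s, fun h => hc (by rw [hq] at h; exact h)⟩ : q.primeCompl),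
      Localization.localRingHom_mk' _ _ _ _ _ _⟩
  · obtain ⟨⟨r, s⟩, rfl⟩ := IsLocalization.mk'_surjective q.primeCompl z
    rw [RingHom.mem_ker, Localization.localRingHom_mk', IsLocalization.mk'_eq_zero_iff] at hz
    obtain ⟨⟨c, hc⟩, hcr⟩ := hz
    obtain ⟨t, rfl⟩ := hπ c
    have ht : t ∈ q.primeCompl := fun h => hc (by rw [hq] at h; exact h)
    rw [IsLocalization.mk'_mem_map_algebraMap_iff]
    exact ⟨t, ht, by rw [RingHom.mem_ker, map_mul]; exact hcr⟩
  · rw [Ideal.map_le_iff_le_comap]
    intro r hr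
    rw [Ideal.mem_comap, RingHom.mem_ker, Localization.localRingHom_to_map, RingHom.mem_ker.1 hr, map_zero]

theorem numGeomBranches_of_strictlyHenselian (R A : Type u) [CommRing R] [HenselianLocalRing R]
    [IsSepClosed (ResidueField R)] [CommRing A] [IsDomain A] [Algebra R A]
    (hA : Function.Surjective (algebraMap R A)) (p : Ideal A) [p.IsPrime]
    (hp : ∀ x : A, x ∈ p ↔ ¬IsUnit x) :
    Brnch.numGeomBranches (Localization.AtPrime p) = 1 := by
  haveI : IsLocalRing A := IsLocalRing.of_surjective' _ hA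
  haveI : IsLocalHom (algebraMap R A) := hA.isLocalHom
  haveI := SHTensor.isStrictHenselization_self R
  haveI : Hensel.IsStrictHenselization A A :=
    HensBranch.isStrictHenselization_of_surjective (R := R) (S := R) (A := A) (T := A) (algebraMap R A) hA hA
      (by rw [Algebra.algebraMap_self, Ideal.map_id]) rfl
  have hu : ∀ x : p.primeCompl, IsUnit (x : A) := fun x => not_not.1 fun h => x.2 ((hp _).2 h)
  let e : A ≃+* Localization.AtPrime p := (IsLocalization.atUnits A p.primeCompl (fun x hx => hu ⟨x, hx⟩)).toRingEquiv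
  rw [BranchInv.numGeomBranches_congr e, ← BranchInv.encard_minimalPrimes_strictHenselization A A,
    IsDomain.minimalPrimes_eq_singleton_bot, Set.encard_singleton]

theorem prime_map_strictHenselization {R R' : Type u} [CommRing R] [HenselianLocalRing R]
    [IsSepClosed (ResidueField R)] [CommRing R'] [Algebra R R'] [Algebra.Smooth R R'] (q : Ideal R') [q.IsPrime]
    (hq : (maximalIdeal R).map (algebraMap R R') ≤ q) {T : Type u} [CommRing T] [IsLocalRing T]
    [Algebra (Localization.AtPrime q) T] [IsLocalHom (algebraMap (Localization.AtPrime q) T)]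
    [Hensel.IsStrictHenselization (Localization.AtPrime q) T] (I : Ideal R) [I.IsPrime] :
    ((I.map (algebraMap R (Localization.AtPrime q))).map (algebraMap (Localization.AtPrime q) T)).IsPrime := by
  let I' : Ideal R' := I.map (algebraMap R R')
  let π : R' →+* R' ⧸ I' := Ideal.Quotient.mk I'
  have hI : I ≤ maximalIdeal R := le_maximalIdeal Ideal.IsPrime.ne_top'
  have hI'q : I' ≤ q := (Ideal.map_mono hI).trans hq
  let q' : Ideal (R' ⧸ I') := q.map π
  have hqq : q = q'.comap π := by
    rw [Ideal.comap_map_of_surjective' _ Ideal.Quotient.mk_surjective, Ideal.mk_ker, sup_eq_left.2 hI'q]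
  haveI : q'.IsPrime := Ideal.map_isPrime_of_surjective Ideal.Quotient.mk_surjective (by rwa [Ideal.mk_ker])
  haveI : Algebra.Smooth (R ⧸ I) (R' ⧸ I') :=
    Algebra.Smooth.of_equiv (Algebra.TensorProduct.quotIdealMapEquivQuotTensor R' I).symm
  let p : Ideal (R ⧸ I) := q'.under (R ⧸ I)
  haveI : p.IsPrime := Ideal.IsPrime.under _ q'
  haveI : q'.LiesOver p := ⟨rfl⟩
  haveI : IsLocalRing (R ⧸ I) := IsLocalRing.of_surjective' _ Ideal.Quotient.mk_surjective
  haveI : IsLocalHom (algebraMap R (R ⧸ I)) := Ideal.Quotient.mk_surjective.isLocalHom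
  have hp : ∀ x : R ⧸ I, x ∈ p ↔ ¬IsUnit x := by
    intro x
    refine ⟨fun h hu => Ideal.IsPrime.ne_top' (Ideal.eq_top_of_isUnit_mem p h hu), fun h => ?_⟩
    obtain ⟨r, rfl⟩ := Ideal.Quotient.mk_surjective x
    have hr : r ∈ maximalIdeal R := fun hu => h (hu.map _)
    show algebraMap R' (R' ⧸ I') (algebraMap R R' r) ∈ q'
    exact Ideal.mem_map_of_mem π (hq (Ideal.mem_map_of_mem _ hr))
  have hbr : Brnch.numGeomBranches (Localization.AtPrime q') = 1 := by
    rw [BranchInv.numGeomBranches_smooth q' p]
    exact numGeomBranches_of_strictlyHenselian R (R ⧸ I) Ideal.Quotient.mk_surjective p hp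
  haveI : IsReduced (R' ⧸ I') := S9407.result (R ⧸ I) (R' ⧸ I')
  haveI : IsReduced (Localization.AtPrime q') := isReduced_localizationPreserves q'.primeCompl _ inferInstance
  obtain ⟨hφ, hker⟩ := localRingHom_surjective_and_ker π Ideal.Quotient.mk_surjective q' q hqq
  let φ := Localization.localRingHom q q' π hqq
  letI : Algebra (Localization.AtPrime q) (Localization.AtPrime q') := φ.toAlgebra
  haveI : IsLocalHom (algebraMap (Localization.AtPrime q) (Localization.AtPrime q')) :=
    Localization.isLocalHom_localRingHom q q' π hqq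
  let J : Ideal T := (RingHom.ker φ).map (algebraMap (Localization.AtPrime q) T)
  have hJ : J ≠ ⊤ := ne_top_of_le_ne_top (maximalIdeal.isMaximal T).ne_top <| Ideal.map_le_iff_le_comap.2 fun x hx => by
    show algebraMap (Localization.AtPrime q) T x ∈ maximalIdeal T
    exact map_nonunit _ x fun hu => not_isUnit_zero ((RingHom.mem_ker.1 hx) ▸ hu.map φ)
  haveI : Nontrivial (T ⧸ J) := Ideal.Quotient.nontrivial_iff.2 hJ
  haveI : IsLocalRing (T ⧸ J) := IsLocalRing.of_surjective' _ Ideal.Quotient.mk_surjective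
  haveI : IsLocalHom (Ideal.Quotient.mk J) := Ideal.Quotient.mk_surjective.isLocalHom
  let ψ : Localization.AtPrime q' →+* T ⧸ J := φ.liftOfSurjective hφ
    ⟨(Ideal.Quotient.mk J).comp (algebraMap _ T), fun x hx => Ideal.Quotient.eq_zero_iff_mem.2 (Ideal.mem_map_of_mem _ hx)⟩
  have hψ : ψ.comp φ = (Ideal.Quotient.mk J).comp (algebraMap _ T) := RingHom.liftOfRightInverse_comp φ _ _ _
  letI : Algebra (Localization.AtPrime q') (T ⧸ J) := ψ.toAlgebra
  haveI : IsLocalHom (algebraMap (Localization.AtPrime q') (T ⧸ J)) := ⟨fun x hx => by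
    obtain ⟨y, rfl⟩ := hφ x
    have hx' : IsUnit ((Ideal.Quotient.mk J) (algebraMap _ T y)) := by
      rw [← RingHom.comp_apply, ← hψ]; exact hx
    exact (isUnit_of_map_unit _ y (isUnit_of_map_unit _ _ hx')).map φ⟩
  haveI : Hensel.IsStrictHenselization (Localization.AtPrime q') (T ⧸ J) :=
    HensBranch.isStrictHenselization_of_surjective (R := Localization.AtPrime q) (S := T)
      (A := Localization.AtPrime q') (T := T ⧸ J) (Ideal.Quotient.mk J) hφ Ideal.Quotient.mk_surjective
      Ideal.mk_ker hψ.symm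
  haveI : IsReduced (T ⧸ J) := (S2747.result (Localization.AtPrime q') (T ⧸ J)).2 inferInstance
  have hone : (minimalPrimes (T ⧸ J)).encard = 1 := by
    rw [BranchInv.encard_minimalPrimes_strictHenselization (Localization.AtPrime q'), hbr]
  obtain ⟨P, hP⟩ := Set.encard_eq_one.1 hone
  have hbot : (⊥ : Ideal (T ⧸ J)) = P := by
    have h1 := Ideal.sInf_minimalPrimes (I := (⊥ : Ideal (T ⧸ J)))
    rw [show (⊥ : Ideal (T ⧸ J)).minimalPrimes = {P} from hP, sInf_singleton] at h1
    rw [h1]
    exact (nilradical_eq_zero (T ⧸ J)).symm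
  have hPp : P.IsPrime := (show P ∈ minimalPrimes (T ⧸ J) by rw [hP]; rfl).1.1
  rw [← hbot] at hPp
  haveI := IsDomain.of_bot_isPrime (T ⧸ J)
  have h := (Ideal.Quotient.isDomain_iff_prime J).1 inferInstance
  have e : (I.map (algebraMap R (Localization.AtPrime q))).map (algebraMap (Localization.AtPrime q) T) = J := by
    show _ = (RingHom.ker φ).map _
    rw [hker, Ideal.mk_ker, IsScalarTower.algebraMap_eq R R' (Localization.AtPrime q), ← Ideal.map_map]
  rwa [e]

end Groth.Agent.FBaseLib
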