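import Mathlib

/-! # Determinants of skew-symmetric matrices are squares -/

set_option autoImplicit false

open Matrix

namespace Groth.Agent.FBaseLib

universe u

theorem isSquare_det_skew_field {K : Type u} [Field K] (h2 : (2 : K) ≠ 0) {n : Type u} [Fintype n] [DecidableEq n]
    (M : Matrix n n K) (hM : Mᵀ = -M) : IsSquare M.det := by
  induction hc : Fintype.card n using Nat.strong_induction_on generalizing n with
  | _ c ih =>
  rcases isEmpty_or_nonempty n with h | h
  · rw [Matrix.det_isEmpty]; exact IsSquare.one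
  by_cases h0 : M = 0
  · rw [h0, Matrix.det_zero]; exact IsSquare.zero
  obtain ⟨i, j, hij⟩ : ∃ i j, M i j ≠ 0 := by
    by_contra h'
    push Not at h'
    exact h0 (Matrix.ext h')
  have hsk : ∀ a b, M b a = -M a b := fun a b => congrFun (congrFun hM a) b
  have hdiag : ∀ a, M a a = 0 := fun a => by
    have := hsk a a
    rw [eq_neg_iff_add_eq_zero, ← two_mul] at this
    exact (mul_eq_zero.1 this).resolve_left h2
  have hne : i ≠ j := fun e => hij (e ▸ hdiag i)
  let p : n → Prop := fun x => x = i ∨ x = j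
  let e : {x // p x} ⊕ {x // ¬p x} ≃ n := Equiv.sumCompl p
  rw [← Matrix.det_submatrix_equiv_self e M, ← Matrix.fromBlocks_toBlocks (M.submatrix e e)]
  set A := (M.submatrix e e).toBlocks₁₁
  set B := (M.submatrix e e).toBlocks₁₂
  set C := (M.submatrix e e).toBlocks₂₁
  set D := (M.submatrix e e).toBlocks₂₂
  have hA : Aᵀ = -A := Matrix.ext fun a b => hsk _ _
  have hBC : Cᵀ = -B := Matrix.ext fun a b => hsk _ _
  have hCB : Bᵀ = -C := Matrix.ext fun a b => hsk _ _
  have hD : Dᵀ = -D := Matrix.ext fun a b => hsk _ _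
  let f : Fin 2 ≃ {x // p x} :=
    { toFun := ![⟨i, Or.inl rfl⟩, ⟨j, Or.inr rfl⟩]
      invFun := fun x => if x.1 = i then 0 else 1
      left_inv := fun a => by fin_cases a <;> simp [hne.symm]
      right_inv := fun x => by
        rcases x.2 with hx | hx
        · simp only [hx, if_true]; exact Subtype.ext hx.symm
        · simp only [hx, if_neg hne.symm]; exact Subtype.ext hx.symm }
  have hdA : A.det = M i j * M i j := by
    rw [← Matrix.det_submatrix_equiv_self f A, Matrix.det_fin_two]
    show M i i * M j j - M i j * M j i = _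
    rw [hdiag, hsk i j]; ring
  haveI : Invertible A.det := invertibleOfNonzero (by rw [hdA]; exact mul_ne_zero hij hij)
  haveI : Invertible A := Matrix.invertibleOfDetInvertible A
  rw [Matrix.det_fromBlocks₁₁]
  refine IsSquare.mul ⟨M i j, hdA⟩ (ih _ ?_ _ ?_ rfl)
  · rw [← hc]
    exact Fintype.card_subtype_lt (x := i) (fun hx => hx (Or.inl rfl))
  · rw [Matrix.transpose_sub, Matrix.transpose_mul, Matrix.transpose_mul, Matrix.invOf_eq_nonsing_inv,
      Matrix.transpose_nonsing_inv, hA, hBC, hCB, hD]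
    have hAinv : (-A)⁻¹ = -A⁻¹ := Matrix.inv_eq_left_inv (by
      rw [neg_mul_neg, Matrix.nonsing_inv_mul _ (isUnit_of_invertible A.det)])
    rw [hAinv]
    simp only [Matrix.neg_mul, Matrix.mul_neg, neg_neg, ← Matrix.mul_assoc]
    abel

/-- Over an integrally closed domain of characteristic not two. -/
theorem exists_sq_eq_det_skew {R : Type u} [CommRing R] [IsDomain R] [IsIntegrallyClosed R] (h2 : (2 : R) ≠ 0)
    {n : Type u} [Fintype n] [DecidableEq n] (M : Matrix n n R) (hM : Mᵀ = -M) : ∃ P, M.det = P ^ 2 := by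
  let K := FractionRing R
  have h2K : (2 : K) ≠ 0 := by
    rw [← map_ofNat (algebraMap R K) 2]
    exact (map_ne_zero_iff _ (IsFractionRing.injective R K)).2 h2
  obtain ⟨x, hx⟩ := isSquare_det_skew_field h2K (M.map (algebraMap R K)) (by rw [← Matrix.transpose_map, hM]; ext; simp)
  rw [← RingHom.mapMatrix_apply, ← RingHom.map_det] at hx
  have hint : IsIntegral R x := IsIntegral.of_pow (n := 2) two_pos (by rw [sq, ← hx]; exact isIntegral_algebraMap)
  obtain ⟨P, rfl⟩ := IsIntegrallyClosed.isIntegral_iff.1 hint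
  rw [← map_mul] at hx
  exact ⟨P, by rw [sq]; exact IsFractionRing.injective R K hx⟩

/-- The characteristic polynomial of a matrix self-adjoint for a symplectic form is a square. -/
theorem exists_charpoly_sq {ι : Type} [Fintype ι] [DecidableEq ι] (J : Matrix ι ι ℂ) (hJ : Jᵀ = -J) (hdet : J.det ≠ 0) :
    ∃ P : MvPolynomial (ι × ι) (Polynomial ℂ), ∀ A : Matrix ι ι ℂ, Aᵀ * J = J * A →
      A.charpoly = (MvPolynomial.eval (fun ij => Polynomial.C (A ij.1 ij.2)) P) ^ 2 := by
  let R := MvPolynomial (ι × ι) (Polynomial ℂ)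
  let κ : ℂ →+* R := MvPolynomial.C.comp Polynomial.C
  let t : R := MvPolynomial.C Polynomial.X
  let G : Matrix ι ι R := Matrix.of fun i j => MvPolynomial.X (i, j)
  let B : Matrix ι ι R := J.map κ * G
  let M : Matrix ι ι R := t • J.map κ - κ 2⁻¹ • (B - Bᵀ)
  have hM : Mᵀ = -M := by
    have h1 : (J.map κ)ᵀ = -J.map κ := by rw [← Matrix.transpose_map, hJ]; ext; simp
    simp only [M, Matrix.transpose_sub, Matrix.transpose_smul, Matrix.transpose_transpose, h1, smul_neg, smul_sub]
    abel
  have h2 : (2 : R) ≠ 0 := two_ne_zero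
  obtain ⟨P, hP⟩ := exists_sq_eq_det_skew h2 M hM
  obtain ⟨c, hc⟩ := isSquare_det_skew_field (two_ne_zero (α := ℂ)) J hJ
  refine ⟨MvPolynomial.C (Polynomial.C c⁻¹) * P, fun A hA => ?_⟩
  let φ : R →+* Polynomial ℂ := MvPolynomial.eval fun ij => Polynomial.C (A ij.1 ij.2)
  have hκ : ∀ z, φ (κ z) = Polynomial.C z := fun z => MvPolynomial.eval_C _
  have hB : B.map φ = (J * A).map Polynomial.C := by
    show (J.map κ * G).map φ = _
    rw [Matrix.map_mul, Matrix.map_mul, Matrix.map_map]
    congr 1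
    · exact Matrix.ext fun a b => hκ _
    · exact Matrix.ext fun a b => MvPolynomial.eval_X _
  have hS : (J * A)ᵀ = -(J * A) := by rw [Matrix.transpose_mul, hJ, mul_neg, hA]
  have hMA : M.map φ = J.map Polynomial.C * A.charmatrix := by
    have e1 : M.map φ = (Polynomial.X : Polynomial ℂ) • J.map Polynomial.C - Polynomial.C (2 : ℂ)⁻¹ • (B.map φ - (B.map φ)ᵀ) := by
      refine Matrix.ext fun a b => ?_
      show φ (t * κ (J a b) - κ 2⁻¹ * (B a b - B b a)) = _
      rw [map_sub, map_mul, map_mul, map_sub, hκ, hκ, show φ t = Polynomial.X from MvPolynomial.eval_C _]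
      rfl
    rw [e1, hB, ← Matrix.transpose_map, hS]
    refine Matrix.ext fun a b => ?_
    have e2 : (J.map Polynomial.C * A.charmatrix) a b = Polynomial.X * Polynomial.C (J a b) - Polynomial.C ((J * A) a b) := by
      rw [Matrix.charmatrix, Matrix.mul_sub, Matrix.sub_apply]
      congr 1
      · rw [Matrix.scalar_apply, Matrix.mul_diagonal, Matrix.map_apply, mul_comm]
      · show (J.map Polynomial.C * A.map Polynomial.C) a b = _
        rw [← Matrix.map_mul]; rfl
    rw [e2]
    simp only [Matrix.sub_apply, Matrix.smul_apply, Matrix.map_apply, Matrix.neg_apply, map_neg, smul_eq_mul, sub_neg_eq_add]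
    rw [← Polynomial.C_add, ← Polynomial.C_mul, show (2 : ℂ)⁻¹ * ((J * A) a b + (J * A) a b) = (J * A) a b by ring]
  have hd : Polynomial.C J.det * A.charpoly = φ P ^ 2 := by
    rw [← map_pow φ, ← hP, RingHom.map_det φ, RingHom.mapMatrix_apply, hMA, Matrix.det_mul, Matrix.charpoly,
      RingHom.map_det Polynomial.C, RingHom.mapMatrix_apply]
  have hc0 : c ≠ 0 := fun h => hdet (by rw [hc, h, mul_zero])
  show _ = φ _ ^ 2
  rw [map_mul, mul_pow, ← hd, show φ (MvPolynomial.C (Polynomial.C c⁻¹)) = Polynomial.C c⁻¹ from hκ _, hc,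
    ← mul_assoc, ← Polynomial.C_pow, ← Polynomial.C_mul,
    show c⁻¹ ^ 2 * (c * c) = 1 by field_simp, Polynomial.C_1, one_mul]

end Groth.Agent.FBaseLib
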