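import Groth.Agent.QRegLib.Basic
import Mathlib.RingTheory.MvPolynomial.Ideal
import Mathlib.RingTheory.Smooth.Basic

/-! # Infinitesimal neighbourhoods of quasi-regular sequences with formally smooth quotient -/

set_option autoImplicit false

universe u v

open MvPolynomial

namespace Groth.Agent.FBaseLib

/-- A ring map from polynomials over the quotient which is the identity modulo the ideal. -/
theorem trunc_surjective {T B : Type*} [CommRing T] [CommRing B] {ι : Type*} (Φ : MvPolynomial ι B →+* T) (N : ℕ)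
    (hN : (idealOfVars ι B).map Φ ^ N = ⊥) (hmod : ∀ c : T, ∃ b, c - Φ (MvPolynomial.C b) ∈ (idealOfVars ι B).map Φ) :
    Function.Surjective Φ := by
  intro c
  suffices h : ∀ k, ∀ c : T, ∃ p, c - Φ p ∈ (idealOfVars ι B).map Φ ^ k by
    obtain ⟨p, hp⟩ := h N c
    rw [hN, Ideal.mem_bot, sub_eq_zero] at hp
    exact ⟨p, hp.symm⟩
  intro k
  induction k with
  | zero => intro c; exact ⟨0, by simp⟩
  | succ k ih =>
    have step : ∀ y ∈ (idealOfVars ι B).map Φ ^ k, ∃ p, y - Φ p ∈ (idealOfVars ι B).map Φ ^ (k + 1) := by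
      intro y hy
      rw [← Ideal.map_pow] at hy
      induction hy using Submodule.span_induction with
      | mem z hz => obtain ⟨q, -, rfl⟩ := hz; exact ⟨q, by simp⟩
      | zero => exact ⟨0, by simp⟩
      | add a b _ _ iha ihb =>
        obtain ⟨p, hp⟩ := iha
        obtain ⟨q, hq⟩ := ihb
        exact ⟨p + q, by rw [map_add, add_sub_add_comm]; exact add_mem hp hq⟩
      | smul a y hy' ihy =>
        obtain ⟨p, hp⟩ := ihy
        obtain ⟨b, hb⟩ := hmod a
        refine ⟨MvPolynomial.C b * p, ?_⟩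
        have hy'' : y ∈ (idealOfVars ι B).map Φ ^ k := by rw [← Ideal.map_pow]; exact hy'
        have e : a • y - Φ (MvPolynomial.C b * p) = (a - Φ (MvPolynomial.C b)) * y + Φ (MvPolynomial.C b) * (y - Φ p) := by
          rw [smul_eq_mul, map_mul]; ring
        rw [e]
        refine add_mem ?_ (Ideal.mul_mem_left _ _ hp)
        rw [pow_succ']
        exact Ideal.mul_mem_mul hb hy''
    intro c
    obtain ⟨p, hp⟩ := ih c
    obtain ⟨q, hq⟩ := step _ hp
    exact ⟨p + q, by rw [map_add, ← sub_sub]; exact hq⟩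

/-- The truncated polynomial ring is the infinitesimal neighbourhood. -/
theorem exists_truncated_equiv {R : Type u} {A : Type v} [CommRing R] [CommRing A] [Algebra R A] {d : ℕ}
    (x : Fin d → A) (hq : CAlgX.IsQuasiRegular x) [Algebra.FormallySmooth R (A ⧸ Ideal.span (Set.range x))]
    (N : ℕ) (hN : 1 ≤ N) :
    ∃ e : (A ⧸ Ideal.span (Set.range x) ^ N) ≃ₐ[R]
        (MvPolynomial (Fin d) (A ⧸ Ideal.span (Set.range x)) ⧸ idealOfVars (Fin d) (A ⧸ Ideal.span (Set.range x)) ^ N),
      (∀ i : Fin d, e (Ideal.Quotient.mk _ (x i)) = Ideal.Quotient.mk _ (MvPolynomial.X i)) ∧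
      ∀ a : A, e (Ideal.Quotient.mk _ a) - Ideal.Quotient.mk _ (MvPolynomial.C (Ideal.Quotient.mk _ a)) ∈
        (idealOfVars (Fin d) (A ⧸ Ideal.span (Set.range x))).map (Ideal.Quotient.mk _) := by
  classical
  let J := Ideal.span (Set.range x)
  let m : A →+* A ⧸ J ^ N := Ideal.Quotient.mk _
  let JC := J.map m
  have hJN : JC ^ N = ⊥ := by rw [← Ideal.map_pow, Ideal.map_quotient_self]
  let g : (A ⧸ J) →ₐ[R] ((A ⧸ J ^ N) ⧸ JC) :=
    Ideal.Quotient.liftₐ J ((Ideal.Quotient.mkₐ R JC).comp (Ideal.Quotient.mkₐ R (J ^ N))) fun a ha =>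
      Ideal.Quotient.eq_zero_iff_mem.2 (Ideal.mem_map_of_mem m ha)
  let s : (A ⧸ J) →ₐ[R] A ⧸ J ^ N := Algebra.FormallySmooth.lift JC ⟨N, by rw [hJN, Ideal.zero_eq_bot]⟩ g
  have hs : ∀ a : A, s (Ideal.Quotient.mk J a) - m a ∈ JC := fun a => by
    rw [← Ideal.Quotient.eq_zero_iff_mem, map_sub, sub_eq_zero, Algebra.FormallySmooth.mk_lift]
    rfl
  let Φ : MvPolynomial (Fin d) (A ⧸ J) →+* A ⧸ J ^ N := eval₂Hom s.toRingHom fun i => m (x i)
  have hΦX : ∀ i, Φ (MvPolynomial.X i) = m (x i) := fun i => eval₂Hom_X' _ _ i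
  have hΦC : ∀ b, Φ (MvPolynomial.C b) = s b := fun b => eval₂Hom_C _ _ b
  have hmap : (idealOfVars (Fin d) (A ⧸ J)).map Φ = JC := by
    show _ = (Ideal.span (Set.range x)).map m
    rw [idealOfVars, Ideal.map_span, Ideal.map_span, ← Set.range_comp, ← Set.range_comp]
    exact congrArg Ideal.span (congrArg Set.range (funext hΦX))
  have hsurj : Function.Surjective Φ := trunc_surjective Φ N (by rw [hmap, hJN]) fun c => by
    obtain ⟨a, rfl⟩ := Ideal.Quotient.mk_surjective c
    refine ⟨Ideal.Quotient.mk J a, ?_⟩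
    rw [hmap, hΦC, ← neg_sub]
    exact JC.neg_mem (hs a)
  have hker : RingHom.ker Φ = idealOfVars (Fin d) (A ⧸ J) ^ N := by
    refine le_antisymm (fun P hP => ?_) ?_
    swap
    · rw [← Ideal.map_eq_bot_iff_le_ker, Ideal.map_pow, hmap, hJN]
    rw [mem_pow_idealOfVars_iff']
    intro e₀ he₀
    induction hn : Finsupp.degree e₀ using Nat.strong_induction_on generalizing e₀ with
    | _ n ih =>
    by_contra hne
    choose σ hσ using Ideal.Quotient.mk_surjective (I := J)
    let S := P.support.filter fun d' => Finsupp.degree d' = n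
    let Pt : MvPolynomial (Fin d) A := ∑ d' ∈ S, monomial d' (σ (P.coeff d'))
    have hhom : Pt.IsHomogeneous n := IsHomogeneous.sum S _ _ fun d' hd' =>
      isHomogeneous_monomial _ (Finset.mem_filter.1 hd').2
    have hx : ∀ (d' : Fin d →₀ ℕ), m (d'.prod fun i k => x i ^ k) ∈ JC ^ Finsupp.degree d' := by
      intro d'
      rw [← Ideal.map_pow]
      refine Ideal.mem_map_of_mem m ?_
      rw [Finsupp.prod, Finsupp.degree_apply, ← Finset.prod_pow_eq_pow_sum]
      exact Ideal.prod_mem_prod fun i _ => Ideal.pow_mem_pow (show x i ∈ J from Ideal.subset_span ⟨i, rfl⟩) _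
    have hev : m (MvPolynomial.eval x Pt) ∈ JC ^ (n + 1) := by
      have hsum : Φ P = ∑ d' ∈ P.support, s (P.coeff d') * m (d'.prod fun i k => x i ^ k) := by
        show eval₂ s.toRingHom (fun i => m (x i)) P = _
        rw [eval₂_eq]
        refine Finset.sum_congr rfl fun d' _ => ?_
        rw [map_finsuppProd]
        simp [Finsupp.prod, map_pow]
      have hP0 : Φ P = 0 := hP
      rw [hsum, ← Finset.sum_filter_add_sum_filter_not _ (fun d' => Finsupp.degree d' = n)] at hP0
      have hrest : ∑ d' ∈ P.support.filter (fun d' => ¬Finsupp.degree d' = n),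
          s (P.coeff d') * m (d'.prod fun i k => x i ^ k) ∈ JC ^ (n + 1) := by
        refine sum_mem fun d' hd' => ?_
        obtain ⟨hd1, hd2⟩ := Finset.mem_filter.1 hd'
        rcases lt_or_gt_of_ne hd2 with h | h
        · exact absurd (ih (Finsupp.degree d') h d' (h.trans (hn ▸ he₀)) rfl) (mem_support_iff.1 hd1)
        · exact Ideal.mul_mem_left _ _ (Ideal.pow_le_pow_right (Nat.succ_le_of_lt h) (hx d'))
      have e : m (MvPolynomial.eval x Pt) = ∑ d' ∈ S, m (σ (P.coeff d')) * m (d'.prod fun i k => x i ^ k) := by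
        rw [map_sum, map_sum]
        simp [eval_monomial]
      have e2 : m (MvPolynomial.eval x Pt) = -∑ d' ∈ S, (s (P.coeff d') - m (σ (P.coeff d'))) *
          m (d'.prod fun i k => x i ^ k) -
          ∑ d' ∈ P.support.filter (fun d' => ¬Finsupp.degree d' = n),
            s (P.coeff d') * m (d'.prod fun i k => x i ^ k) := by
        rw [e, eq_neg_of_add_eq_zero_right hP0]
        simp only [sub_mul, Finset.sum_sub_distrib]
        abel
      rw [e2]
      refine sub_mem (Ideal.neg_mem_iff _ |>.2 (sum_mem fun d' hd' => ?_)) hrest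
      rw [pow_succ']
      refine Ideal.mul_mem_mul ?_ ((Finset.mem_filter.1 hd').2 ▸ hx d')
      have h := hs (σ (P.coeff d'))
      rwa [hσ] at h
    have hev' : MvPolynomial.eval x Pt ∈ J ^ (n + 1) := by
      rw [← Ideal.map_pow, ← Ideal.mem_comap, Ideal.comap_map_of_surjective' _ Ideal.Quotient.mk_surjective,
        Ideal.mk_ker, sup_eq_left.2 (Ideal.pow_le_pow_right (Nat.succ_le_of_lt (hn ▸ he₀)))] at hev
      exact hev
    have hc := hq n Pt hhom hev' e₀
    rw [coeff_sum] at hc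
    simp only [coeff_monomial] at hc
    rw [Finset.sum_ite_eq' S e₀ fun d' => σ (P.coeff d'), if_pos (Finset.mem_filter.2 ⟨mem_support_iff.2 hne, hn⟩)] at hc
    exact hne (by rw [← hσ (P.coeff e₀)]; exact Ideal.Quotient.eq_zero_iff_mem.2 hc)
  have hcomm : ∀ r : R, Φ (algebraMap R (MvPolynomial (Fin d) (A ⧸ J)) r) = algebraMap R (A ⧸ J ^ N) r := fun r => by
    rw [show algebraMap R (MvPolynomial (Fin d) (A ⧸ J)) r = MvPolynomial.C (algebraMap R (A ⧸ J) r) from rfl,
      hΦC, s.commutes]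
  let Φa : MvPolynomial (Fin d) (A ⧸ J) →ₐ[R] A ⧸ J ^ N := { Φ with commutes' := hcomm }
  have hkera : RingHom.ker Φa = idealOfVars (Fin d) (A ⧸ J) ^ N := hker
  let e₁ : (MvPolynomial (Fin d) (A ⧸ J) ⧸ idealOfVars (Fin d) (A ⧸ J) ^ N) ≃ₐ[R] A ⧸ J ^ N :=
    (Ideal.quotientEquivAlgOfEq R hkera.symm).trans (Ideal.quotientKerAlgEquivOfSurjective hsurj)
  have he₁ : ∀ p, e₁ (Ideal.Quotient.mk _ p) = Φ p := fun p => rfl
  refine ⟨e₁.symm, fun i => ?_, fun a => ?_⟩
  · rw [AlgEquiv.symm_apply_eq, he₁, hΦX]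
  · have h1 : m a - s (Ideal.Quotient.mk J a) ∈ (idealOfVars (Fin d) (A ⧸ J)).map Φ := by
      rw [hmap, ← neg_sub]
      exact JC.neg_mem (hs a)
    obtain ⟨q, hq', hqe⟩ := (Ideal.mem_map_iff_of_surjective Φ hsurj).1 h1
    have h2 : e₁.symm (m a) - Ideal.Quotient.mk _ (MvPolynomial.C (Ideal.Quotient.mk J a)) =
        Ideal.Quotient.mk _ q := by
      apply e₁.injective
      rw [map_sub, e₁.apply_symm_apply, he₁, he₁, hΦC, hqe]
    exact h2 ▸ Ideal.mem_map_of_mem _ hq'

end Groth.Agent.FBaseLib
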